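import Mathlib
import Cfsg.Prelude.Def_GeometricClasses
import Cfsg.Agent.Lib.PGroup.SymplecticType

/-!
# Symplectic type two-groups of exponent four in dimension four: first facts
-/

set_option autoImplicit false
set_option linter.all false

namespace CfsgLib.Perm.Elusive.STFour

open Subgroup
open scoped Matrix

/-- in a symplectic type two-group of exponent four the commutators are central involutions -/
theorem commutator_central {G : Type*} [Group G] [Finite G] (hG : IsPGroup 2 G)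
    (hsymp : ∀ A : Subgroup G, A.Characteristic → IsMulCommutative A → IsCyclic A)
    (h4 : ∀ g : G, g ^ 4 = 1) (x y : G) :
    x * y * x⁻¹ * y⁻¹ ∈ center G ∧ (x * y * x⁻¹ * y⁻¹) * (x * y * x⁻¹ * y⁻¹) = 1 := by
  haveI : Fact (Nat.Prime 2) := ⟨Nat.prime_two⟩
  obtain ⟨E, U, hEU, hsup, hE, hU⟩ := CfsgLib.SympType.main hG hsymp
  have hU4 : ∀ u : U, u ^ 4 = 1 := fun u => Subtype.ext (by rw [SubgroupClass.coe_pow]; exact h4 _)
  have hUc : IsCyclic U := by
    rcases hU with h | ⟨-, h16, ⟨m, ⟨e⟩⟩ | ⟨m, ⟨e⟩⟩ | ⟨n, hn, -, a, b, ha, -, -⟩⟩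
    · exact h
    · exfalso
      rw [Nat.card_congr e.toEquiv, DihedralGroup.nat_card] at h16
      have := orderOf_dvd_of_pow_eq_one (show (DihedralGroup.r 1 : DihedralGroup m) ^ 4 = 1 by simpa using congrArg e (hU4 (e.symm (DihedralGroup.r 1))))
      rw [DihedralGroup.orderOf_r_one] at this
      have := Nat.le_of_dvd (by norm_num) this
      omega
    · exfalso
      rw [Nat.card_congr e.toEquiv] at h16
      haveI : NeZero m := ⟨fun h => by
        subst h
        haveI : Finite (QuaternionGroup 0) := Finite.of_equiv _ e.toEquiv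
        have h' := orderOf_pos (QuaternionGroup.a 1 : QuaternionGroup 0)
        rw [QuaternionGroup.orderOf_a_one] at h'
        omega⟩
      rw [Nat.card_eq_fintype_card, QuaternionGroup.card] at h16
      have := orderOf_dvd_of_pow_eq_one (show (QuaternionGroup.a 1 : QuaternionGroup m) ^ 4 = 1 by simpa using congrArg e (hU4 (e.symm (QuaternionGroup.a 1))))
      rw [QuaternionGroup.orderOf_a_one] at this
      have := Nat.le_of_dvd (by norm_num) this
      omega
    · exfalso
      have h := orderOf_dvd_of_pow_eq_one (hU4 a)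
      rw [ha] at h
      have := Nat.le_of_dvd (by norm_num) h
      have : 2 ^ 3 ≤ 2 ^ n := Nat.pow_le_pow_right (by norm_num) hn
      omega
  haveI := hUc
  letI : CommGroup U := IsCyclic.commGroup
  have hdec : ∀ g : G, ∃ e ∈ E, ∃ u ∈ U, e * u = g := fun g => by
    have hg : g ∈ E ⊔ U := hsup.symm ▸ mem_top g
    rw [sup_eq_closure] at hg
    induction hg using closure_induction with
    | mem w hw =>
      rcases hw with hw | hw
      · exact ⟨w, hw, 1, one_mem _, mul_one _⟩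
      · exact ⟨1, one_mem _, w, hw, one_mul _⟩
    | one => exact ⟨1, one_mem _, 1, one_mem _, mul_one _⟩
    | mul v w _ _ hv hw =>
      obtain ⟨a, ha, b, hb, rfl⟩ := hv
      obtain ⟨a', ha', b', hb', rfl⟩ := hw
      refine ⟨a * a', mul_mem ha ha', b * b', mul_mem hb hb', ?_⟩
      calc a * a' * (b * b') = a * (a' * b) * b' := by group
        _ = a * (b * a') * b' := by rw [hEU a' ha' b hb]
        _ = a * b * (a' * b') := by group
    | inv v _ hv =>
      obtain ⟨a, ha, b, hb, rfl⟩ := hv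
      exact ⟨a⁻¹, inv_mem ha, b⁻¹, inv_mem hb, by rw [← _root_.mul_inv_rev, ← hEU a ha b hb]⟩
  obtain ⟨e, he, u, hu, rfl⟩ := hdec x
  obtain ⟨e', he', u', hu', rfl⟩ := hdec y
  have huu : u * u' = u' * u := congrArg Subtype.val (mul_comm (⟨u, hu⟩ : U) ⟨u', hu'⟩)
  have hcomm : e * u * (e' * u') * (e * u)⁻¹ * (e' * u')⁻¹ = e * e' * e⁻¹ * e'⁻¹ := by
    calc e * u * (e' * u') * (e * u)⁻¹ * (e' * u')⁻¹
        = e * ((u * e') * (u' * u⁻¹)) * e⁻¹ * u'⁻¹ * e'⁻¹ := by group
      _ = e * ((e' * u) * (u' * u⁻¹)) * e⁻¹ * u'⁻¹ * e'⁻¹ := by rw [hEU e' he' u hu]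
      _ = e * e' * ((u * u') * u⁻¹) * e⁻¹ * u'⁻¹ * e'⁻¹ := by group
      _ = e * e' * (u' * e⁻¹) * u'⁻¹ * e'⁻¹ := by rw [huu, mul_inv_cancel_right]; group
      _ = e * e' * (e⁻¹ * u') * u'⁻¹ * e'⁻¹ := by rw [hEU _ (inv_mem he) u' hu']
      _ = e * e' * e⁻¹ * e'⁻¹ := by group
  rw [hcomm]
  rcases hE with rfl | ⟨⟨-, -, hd⟩, hcard⟩
  · rw [mem_bot] at he he'
    subst he; subst he'
    simp
  set c : E := ⟨e, he⟩ * ⟨e', he'⟩ * (⟨e, he⟩ : E)⁻¹ * (⟨e', he'⟩ : E)⁻¹ with hc
  have hcZ : c ∈ center E := by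
    rw [← hd]
    show _ ∈ ⁅(⊤ : Subgroup E), ⊤⁆
    exact commutator_mem_commutator (mem_top (⟨e, he⟩ : E)) (mem_top (⟨e', he'⟩ : E))
  refine ⟨mem_center_iff.2 fun g => ?_, ?_⟩
  · obtain ⟨a, ha, b, hb, rfl⟩ := hdec g
    have h1 : a * (c : G) = c * a := congrArg Subtype.val (mem_center_iff.1 hcZ ⟨a, ha⟩)
    have h2 : (c : G) * b = b * c := hEU _ c.2 b hb
    calc a * b * (c : G) = a * ((c : G) * b) := by rw [h2, mul_assoc]
      _ = (c : G) * (a * b) := by rw [← mul_assoc, h1, mul_assoc]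
  · have h : (⟨c, hcZ⟩ : center E) * ⟨c, hcZ⟩ = 1 := by
      rw [← pow_two, ← hcard]
      exact pow_card_eq_one'
    exact congrArg (fun z : center E => ((z : E) : G)) h

variable {ι : Type} [Fintype ι] [DecidableEq ι] {F : Type*} [Field F]

/-- the hypotheses shared by the three statements -/
structure Setting (R : Subgroup (GL ι F)) : Prop where
  fin : Finite R
  two : (2 : F) ≠ 0
  symp : Cfsg.Geo.IsSymplecticTypeGroup 2 R
  absIrr : Cfsg.Geo.ActsAbsolutelyIrreducibly (Cfsg.Geo.matrixSet R)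

variable {R : Subgroup (GL ι F)}

theorem neg_one_ne_one [Nonempty ι] (h2 : (2 : F) ≠ 0) : (-1 : Matrix ι ι F) ≠ 1 := fun h => h2 (by
  have h' := congrFun (congrFun h (Classical.arbitrary ι)) (Classical.arbitrary ι)
  simp at h'
  linear_combination -h')

theorem Setting.pow_four (hR : Setting R) {g : GL ι F} (hg : g ∈ R) : g ^ 4 = 1 := by
  have h := congrArg Subtype.val (Monoid.pow_exponent_eq_one (⟨g, hg⟩ : R))
  rw [hR.symp.exponent_eq] at h
  simpa using h

theorem Setting.scalar_of_central (hR : Setting R) {g : GL ι F} (hc : ∀ y ∈ R, g * y = y * g) :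
    ∃ c : F, (g : Matrix ι ι F) = c • 1 := by
  refine hR.absIrr.2 _ ?_
  rintro _ ⟨y, hy, rfl⟩
  simpa using congrArg (fun w : GL ι F => (w : Matrix ι ι F)) (hc y hy)

theorem Setting.sign [Nonempty ι] (hR : Setting R) {x y : GL ι F} (hx : x ∈ R) (hy : y ∈ R) :
    (x : Matrix ι ι F) * y = (y : Matrix ι ι F) * x ∨ (x : Matrix ι ι F) * y = -((y : Matrix ι ι F) * x) := by
  haveI := hR.fin
  have h := commutator_central (G := R) hR.symp.pGroup hR.symp.cyclic_of_characteristic
    (fun g => Subtype.ext (by rw [SubgroupClass.coe_pow]; exact hR.pow_four g.2)) ⟨x, hx⟩ ⟨y, hy⟩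
  obtain ⟨w, hw⟩ : ∃ w : GL ι F, w = x * y * x⁻¹ * y⁻¹ := ⟨_, rfl⟩
  obtain ⟨c, hc⟩ := hR.scalar_of_central (g := w) (fun g hg => by
    rw [hw]
    exact (congrArg Subtype.val (mem_center_iff.1 h.1 ⟨g, hg⟩)).symm)
  have hc2 : c * c = 1 := by
    have h2 : w * w = 1 := by rw [hw]; exact congrArg Subtype.val h.2
    have h3 := congrArg (fun g : GL ι F => (g : Matrix ι ι F)) h2
    simp only [Units.val_mul, hc, Units.val_one, smul_mul_assoc, one_mul, smul_smul] at h3
    simpa using congrFun (congrFun h3 (Classical.arbitrary ι)) (Classical.arbitrary ι)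
  have hxy : (x : Matrix ι ι F) * y = c • ((y : Matrix ι ι F) * x) := by
    have h3 : x * y = w * (y * x) := by rw [hw]; group
    have h4 := congrArg (fun g : GL ι F => (g : Matrix ι ι F)) h3
    simpa [hc] using h4
  rcases mul_self_eq_one_iff.1 hc2 with rfl | rfl
  · exact Or.inl (by rw [hxy, one_smul])
  · exact Or.inr (by rw [hxy, neg_one_smul])

theorem Setting.square [Nonempty ι] (hR : Setting R) {x : GL ι F} (hx : x ∈ R) :
    (x : Matrix ι ι F) * x = 1 ∨ (x : Matrix ι ι F) * x = -1 := by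
  obtain ⟨c, hc⟩ := hR.scalar_of_central (g := x * x) (fun y hy => Units.ext (by
    rcases hR.sign hx hy with h | h <;> simp only [Units.val_mul]
    · rw [mul_assoc, h, ← mul_assoc, h, mul_assoc]
    · rw [mul_assoc, h, mul_neg, ← mul_assoc, h, neg_mul, neg_neg, mul_assoc]))
  rw [Units.val_mul] at hc
  have h4 := congrArg (fun g : GL ι F => (g : Matrix ι ι F)) (hR.pow_four hx)
  rw [show (4 : ℕ) = 2 + 2 from rfl, pow_add, sq] at h4
  simp only [Units.val_mul, hc, Units.val_one, smul_mul_assoc, one_mul, smul_smul] at h4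
  have hc2 : c * c = 1 := by simpa using congrFun (congrFun h4 (Classical.arbitrary ι)) (Classical.arbitrary ι)
  rcases mul_self_eq_one_iff.1 hc2 with rfl | rfl
  · exact Or.inl (by rw [hc, one_smul])
  · exact Or.inr (by rw [hc, neg_one_smul])

/-- scalar elements of `R` are the central ones -/
theorem Setting.scalar_iff (hR : Setting R) {g : GL ι F} (hg : g ∈ R) :
    (∃ c : F, (g : Matrix ι ι F) = c • 1) ↔ (⟨g, hg⟩ : R) ∈ center R := by
  refine ⟨fun ⟨c, hc⟩ => mem_center_iff.2 fun y => Subtype.ext (Units.ext ?_), fun h => hR.scalar_of_central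
    fun y hy => (congrArg Subtype.val (mem_center_iff.1 h ⟨y, hy⟩)).symm⟩
  show ((y : GL ι F) : Matrix ι ι F) * (g : Matrix ι ι F) = (g : Matrix ι ι F) * ((y : GL ι F) : Matrix ι ι F)
  rw [hc, mul_smul_comm, mul_one, smul_mul_assoc, one_mul]

end CfsgLib.Perm.Elusive.STFour
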