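import Mathlib
import Cfsg.Prelude.Def_GeometricClasses
import Cfsg.Agent.Lib.Perm.Elusive.STFour.Basics

/-!
# Two anticommuting pairs in a symplectic type two-group of dimension four
-/

set_option autoImplicit false
set_option linter.all false

namespace CfsgLib.Perm.Elusive.STFour

open Subgroup
open scoped Matrix

variable {ι : Type} [Fintype ι] [DecidableEq ι] {F : Type*} [Field F]

/-- two commuting pairs of anticommuting matrices: involutions `A`, `B` and square roots `J`, `K` of minus one -/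
structure Rels (A B J K : Matrix ι ι F) : Prop where
  AA : A * A = 1
  BB : B * B = 1
  JJ : J * J = -1
  KK : K * K = -1
  BA : B * A = -(A * B)
  JA : J * A = A * J
  JB : J * B = B * J
  KA : K * A = A * K
  KB : K * B = B * K
  KJ : K * J = -(J * K)

namespace Rels

variable {A B J K : Matrix ι ι F} (h : Rels A B J K)
include h

theorem AA' (X : Matrix ι ι F) : A * (A * X) = X := by rw [← mul_assoc, h.AA, one_mul]
theorem BB' (X : Matrix ι ι F) : B * (B * X) = X := by rw [← mul_assoc, h.BB, one_mul]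
theorem JJ' (X : Matrix ι ι F) : J * (J * X) = -X := by rw [← mul_assoc, h.JJ, neg_one_mul]
theorem KK' (X : Matrix ι ι F) : K * (K * X) = -X := by rw [← mul_assoc, h.KK, neg_one_mul]
theorem BA' (X : Matrix ι ι F) : B * (A * X) = -(A * (B * X)) := by rw [← mul_assoc, h.BA, neg_mul, mul_assoc]
theorem JA' (X : Matrix ι ι F) : J * (A * X) = A * (J * X) := by rw [← mul_assoc, h.JA, mul_assoc]
theorem JB' (X : Matrix ι ι F) : J * (B * X) = B * (J * X) := by rw [← mul_assoc, h.JB, mul_assoc]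
theorem KA' (X : Matrix ι ι F) : K * (A * X) = A * (K * X) := by rw [← mul_assoc, h.KA, mul_assoc]
theorem KB' (X : Matrix ι ι F) : K * (B * X) = B * (K * X) := by rw [← mul_assoc, h.KB, mul_assoc]
theorem KJ' (X : Matrix ι ι F) : K * (J * X) = -(J * (K * X)) := by rw [← mul_assoc, h.KJ, neg_mul, mul_assoc]

omit h in
/-- the standard order of the sixteen products -/
def word (A B J K : Matrix ι ι F) (e : Fin 2 × Fin 2 × Fin 2 × Fin 2) : Matrix ι ι F :=
  (if e.1 = 1 then A else 1) * ((if e.2.1 = 1 then B else 1) *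
    ((if e.2.2.1 = 1 then J else 1) * (if e.2.2.2 = 1 then K else 1)))

omit h in
/-- the sign of a product -/
def sgn (a : Fin 2) : F := if a = 1 then -1 else 1

theorem conj_A (e : Fin 2 × Fin 2 × Fin 2 × Fin 2) :
    A * word A B J K e * A = sgn (F := F) e.2.1 • word A B J K e := by
  obtain ⟨a, b, c, d⟩ := e
  fin_cases a <;> fin_cases b <;> fin_cases c <;> fin_cases d <;>
    simp [word, sgn, mul_assoc, h.AA, h.BB, h.JJ, h.KK, h.BA, h.JA, h.JB, h.KA, h.KB, h.KJ,
      h.AA', h.BB', h.JJ', h.KK', h.BA', h.JA', h.JB', h.KA', h.KB', h.KJ']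

theorem conj_B (e : Fin 2 × Fin 2 × Fin 2 × Fin 2) :
    B * word A B J K e * B = sgn (F := F) e.1 • word A B J K e := by
  obtain ⟨a, b, c, d⟩ := e
  fin_cases a <;> fin_cases b <;> fin_cases c <;> fin_cases d <;>
    simp [word, sgn, mul_assoc, h.AA, h.BB, h.JJ, h.KK, h.BA, h.JA, h.JB, h.KA, h.KB, h.KJ,
      h.AA', h.BB', h.JJ', h.KK', h.BA', h.JA', h.JB', h.KA', h.KB', h.KJ']

theorem conj_J (e : Fin 2 × Fin 2 × Fin 2 × Fin 2) :
    J * word A B J K e * J = (-sgn (F := F) e.2.2.2) • word A B J K e := by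
  obtain ⟨a, b, c, d⟩ := e
  fin_cases a <;> fin_cases b <;> fin_cases c <;> fin_cases d <;>
    simp [word, sgn, mul_assoc, h.AA, h.BB, h.JJ, h.KK, h.BA, h.JA, h.JB, h.KA, h.KB, h.KJ,
      h.AA', h.BB', h.JJ', h.KK', h.BA', h.JA', h.JB', h.KA', h.KB', h.KJ']

theorem conj_K (e : Fin 2 × Fin 2 × Fin 2 × Fin 2) :
    K * word A B J K e * K = (-sgn (F := F) e.2.2.1) • word A B J K e := by
  obtain ⟨a, b, c, d⟩ := e
  fin_cases a <;> fin_cases b <;> fin_cases c <;> fin_cases d <;>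
    simp [word, sgn, mul_assoc, h.AA, h.BB, h.JJ, h.KK, h.BA, h.JA, h.JB, h.KA, h.KB, h.KJ,
      h.AA', h.BB', h.JJ', h.KK', h.BA', h.JA', h.JB', h.KA', h.KB', h.KJ']

theorem word_ne_zero [Nonempty ι] (e : Fin 2 × Fin 2 × Fin 2 × Fin 2) : word A B J K e ≠ 0 := by
  have uA : IsUnit A := ⟨⟨A, A, h.AA, h.AA⟩, rfl⟩
  have uB : IsUnit B := ⟨⟨B, B, h.BB, h.BB⟩, rfl⟩
  have uJ : IsUnit J := ⟨⟨J, -J, by simp [h.JJ], by simp [h.JJ]⟩, rfl⟩
  have uK : IsUnit K := ⟨⟨K, -K, by simp [h.KK], by simp [h.KK]⟩, rfl⟩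
  have : IsUnit (word A B J K e) := by
    unfold word
    refine IsUnit.mul ?_ (IsUnit.mul ?_ (IsUnit.mul ?_ ?_)) <;> split_ifs <;> first | assumption | exact isUnit_one
  exact this.ne_zero

/-- the sixteen products are independent -/
theorem indep [Nonempty ι] (h2 : (2 : F) ≠ 0) : LinearIndependent F (word A B J K) := by
  classical
  let T : Fin 4 → Matrix ι ι F →ₗ[F] Matrix ι ι F := fun k =>
    LinearMap.mulLeft F (![A, B, J, K] k) ∘ₗ LinearMap.mulRight F (![A, B, J, K] k)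
  let l : Fin 4 → Fin 2 × Fin 2 × Fin 2 × Fin 2 → F := fun k e =>
    ![sgn e.2.1, sgn e.1, -sgn e.2.2.2, -sgn e.2.2.1] k
  have he : ∀ k e, T k (word A B J K e) = l k e • word A B J K e := fun k e => by
    fin_cases k <;> simp only [T, l, LinearMap.comp_apply, LinearMap.mulLeft_apply, LinearMap.mulRight_apply,
      ← mul_assoc] <;> simp [h.conj_A, h.conj_B, h.conj_J, h.conj_K]
  have hne : ∀ a b : Fin 2, a ≠ b → sgn (F := F) a ≠ sgn b := by
    intro a b hab
    fin_cases a <;> fin_cases b <;> simp [sgn] at hab ⊢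
    · exact fun e => h2 (by linear_combination e)
    · exact fun e => h2 (by linear_combination -e)
  have hsep : ∀ e e', e ≠ e' → ∃ k, l k e ≠ l k e' := by
    rintro ⟨a, b, c, d⟩ ⟨a', b', c', d'⟩ hee
    by_cases ha : a = a'
    · by_cases hb : b = b'
      · by_cases hc : c = c'
        · have hd : d ≠ d' := fun hd => hee (by rw [ha, hb, hc, hd])
          exact ⟨2, by simpa [l] using hne _ _ hd⟩
        · exact ⟨3, by simpa [l] using hne _ _ hc⟩
      · exact ⟨0, by simpa [l] using hne _ _ hb⟩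
    · exact ⟨1, by simpa [l] using hne _ _ ha⟩
  rw [linearIndependent_iff']
  intro s
  induction s using Finset.induction_on with
  | empty => simp
  | insert k s hk ih =>
    intro g hg
    have hzero : ∀ j ∈ s, g j = 0 := by
      intro j hj
      obtain ⟨x, hx⟩ := hsep j k (fun e => hk (e ▸ hj))
      have h1 : ∑ i ∈ s, (g i * (l x i - l x k)) • word A B J K i = 0 := by
        have h2' : ∑ i ∈ insert k s, (g i * l x i) • word A B J K i = 0 := by
          simpa [map_sum, map_smul, he, smul_smul] using congrArg (T x) hg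
        have h3 : ∑ i ∈ insert k s, (g i * l x k) • word A B J K i = 0 := by
          simpa [Finset.smul_sum, smul_smul, mul_comm] using congrArg (l x k • ·) hg
        have h4 : ∑ i ∈ insert k s, (g i * (l x i - l x k)) • word A B J K i = 0 := by
          simp only [mul_sub, sub_smul, Finset.sum_sub_distrib, h2', h3, sub_zero]
        simpa [Finset.sum_insert hk] using h4
      exact (mul_eq_zero.1 (ih _ h1 j hj)).resolve_right (sub_ne_zero.2 hx)
    intro i hi
    rcases Finset.mem_insert.1 hi with rfl | hi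
    · rw [Finset.sum_insert hk, Finset.sum_eq_zero (fun j hj => by rw [hzero j hj, zero_smul]), add_zero] at hg
      exact (smul_eq_zero.1 hg).resolve_right (h.word_ne_zero _)
    · exact hzero i hi

/-- only scalars commute with all four -/
theorem scalar_of_comm (h2 : (2 : F) ≠ 0) (hι : Fintype.card ι = 4) {X : Matrix ι ι F}
    (hA : A * X = X * A) (hB : B * X = X * B) (hJ : J * X = X * J) (hK : K * X = X * K) :
    ∃ c : F, X = c • 1 := by
  classical
  haveI : Nonempty ι := Fintype.card_pos_iff.1 (by omega)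
  have hli := h.indep h2
  have hsp : Submodule.span F (Set.range (word A B J K)) = ⊤ :=
    hli.span_eq_top_of_card_eq_finrank' (by simp [Module.finrank_matrix, hι])
  obtain ⟨c, hc⟩ := (Submodule.mem_span_range_iff_exists_fun F).1 (hsp.symm ▸ Submodule.mem_top : X ∈ _)
  have key : ∀ (P : Matrix ι ι F) (s : Fin 2 × Fin 2 × Fin 2 × Fin 2 → F) (σ : F), P * P = σ • 1 →
      P * X = X * P → (∀ e, P * word A B J K e * P = s e • word A B J K e) →
      ∀ e, c e * (s e - σ) = 0 := fun P s σ hPP hPX hs => by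
    refine Fintype.linearIndependent_iff.1 hli _ ?_
    have e1 : P * X * P = σ • X := by rw [hPX, mul_assoc, hPP, mul_smul_comm, mul_one]
    rw [← hc, Finset.mul_sum, Finset.sum_mul, Finset.smul_sum] at e1
    simp only [mul_sub, sub_smul, Finset.sum_sub_distrib]
    rw [sub_eq_zero]
    convert e1 using 1
    · exact Finset.sum_congr rfl fun e _ => by rw [mul_smul_comm, smul_mul_assoc, hs, smul_smul]
    · exact Finset.sum_congr rfl fun e _ => by rw [smul_smul, mul_comm]
  refine ⟨c 0, ?_⟩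
  rw [← hc, Finset.sum_eq_single 0]
  · congr 1
    simp [word]
  · rintro ⟨a, b, cc, d⟩ - hne
    suffices c (a, b, cc, d) = 0 by rw [this, zero_smul]
    have k1 := key A _ 1 (by rw [h.AA, one_smul]) hA h.conj_A (a, b, cc, d)
    have k2 := key B _ 1 (by rw [h.BB, one_smul]) hB h.conj_B (a, b, cc, d)
    have k3 := key J _ (-1) (by rw [h.JJ, neg_one_smul]) hJ h.conj_J (a, b, cc, d)
    have k4 := key K _ (-1) (by rw [h.KK, neg_one_smul]) hK h.conj_K (a, b, cc, d)
    by_contra hc0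
    simp only [mul_eq_zero, hc0, false_or] at k1 k2 k3 k4
    have hs : ∀ x : Fin 2, sgn (F := F) x = 1 → x = 0 := fun x hx => by
      fin_cases x
      · rfl
      · exact absurd (show (2 : F) = 0 by simp [sgn] at hx; linear_combination -hx) h2
    exact hne (by
      rw [hs a (by linear_combination k2), hs b (by linear_combination k1), hs d (by linear_combination -k3),
        hs cc (by linear_combination -k4)]
      rfl)
  · simp

end Rels

variable {R : Subgroup (GL ι F)}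

theorem Setting.exists_anticomm [Nonempty ι] (hR : Setting R) {x : GL ι F} (hx : x ∈ R)
    (hns : ∀ c : F, (x : Matrix ι ι F) ≠ c • 1) :
    ∃ y ∈ R, (x : Matrix ι ι F) * y = -((y : Matrix ι ι F) * x) := by
  by_contra hcon
  push Not at hcon
  obtain ⟨c, hc⟩ := hR.scalar_of_central (g := x) fun y hy => Units.ext (by
    rcases hR.sign hx hy with h | h
    · simpa using h
    · exact absurd h (hcon y hy))
  exact hns c hc

theorem not_scalar_of_anticomm [Nonempty ι] (h2 : (2 : F) ≠ 0) {x y : GL ι F}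
    (h : (x : Matrix ι ι F) * y = -((y : Matrix ι ι F) * x)) (c : F) : (x : Matrix ι ι F) ≠ c • 1 := fun hc => by
  have hu : (x * y : GL ι F) = ((x * y : GL ι F) : Matrix ι ι F) := rfl
  have h1 : (2 : F) • ((x * y : GL ι F) : Matrix ι ι F) = 0 := by
    rw [Units.val_mul, two_smul]
    nth_rw 2 [h]
    rw [hc, smul_mul_assoc, one_mul, mul_smul_comm, mul_one, add_neg_cancel]
  exact (x * y).ne_zero ((smul_eq_zero.1 h1).resolve_left h2)

theorem Setting.exists_noncentral [Nonempty ι] (hR : Setting R) (hlt : Nat.card (center R) < Nat.card R) :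
    ∃ x ∈ R, ∀ c : F, (x : Matrix ι ι F) ≠ c • 1 := by
  by_contra hcon
  push Not at hcon
  have : center R = ⊤ := eq_top_iff.2 fun g _ => (hR.scalar_iff g.2).1 (hcon g g.2)
  rw [this, card_top] at hlt
  exact lt_irrefl _ hlt

/-- a non-scalar element commuting with two anticommuting ones -/
theorem Setting.exists_centralising [Nonempty ι] (hR : Setting R) (hlt : 4 * Nat.card (center R) < Nat.card R)
    {x y : GL ι F} (hx : x ∈ R) (hy : y ∈ R) (hxy : (x : Matrix ι ι F) * y = -((y : Matrix ι ι F) * x)) :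
    ∃ j ∈ R, (j : Matrix ι ι F) * x = (x : Matrix ι ι F) * j ∧ (j : Matrix ι ι F) * y = (y : Matrix ι ι F) * j ∧
      ∀ c : F, (j : Matrix ι ι F) ≠ c • 1 := by
  haveI := hR.fin
  have hcor : ∀ r ∈ R, ∃ a b : Fin 2, ((x ^ (a : ℕ) * y ^ (b : ℕ) * r : GL ι F) : Matrix ι ι F) * x =
      (x : Matrix ι ι F) * (x ^ (a : ℕ) * y ^ (b : ℕ) * r : GL ι F) ∧
      ((x ^ (a : ℕ) * y ^ (b : ℕ) * r : GL ι F) : Matrix ι ι F) * y =
      (y : Matrix ι ι F) * (x ^ (a : ℕ) * y ^ (b : ℕ) * r : GL ι F) := by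
    intro r hr
    have hyx : (y : Matrix ι ι F) * x = -((x : Matrix ι ι F) * y) := by rw [hxy, neg_neg]
    have e1 : ∀ X : Matrix ι ι F, (y : Matrix ι ι F) * (x * X) = -((x : Matrix ι ι F) * (y * X)) := fun X => by
      rw [← mul_assoc, hyx, neg_mul, mul_assoc]
    rcases hR.sign hr hx with h1 | h1 <;> rcases hR.sign hr hy with h2 | h2
    · exact ⟨0, 0, by simpa using h1, by simpa using h2⟩
    · refine ⟨1, 0, ?_, ?_⟩ <;> simp [mul_assoc, h1, h2, e1]
    · refine ⟨0, 1, ?_, ?_⟩ <;> simp [mul_assoc, h1, h2, e1]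
    · refine ⟨1, 1, ?_, ?_⟩ <;> simp [mul_assoc, h1, h2, e1]
  by_contra hcon
  push Not at hcon
  choose a b hab using fun r : R => hcor r r.2
  have hmem : ∀ r : R, x ^ (a r : ℕ) * y ^ (b r : ℕ) * (r : GL ι F) ∈ R := fun r =>
    mul_mem (mul_mem (pow_mem hx _) (pow_mem hy _)) r.2
  have hcen : ∀ r : R, (⟨_, hmem r⟩ : R) ∈ center R := fun r =>
    (hR.scalar_iff (hmem r)).1 (hcon _ (hmem r) (hab r).1 (hab r).2)
  have hinj : Function.Injective fun r : R => ((a r, b r), (⟨⟨_, hmem r⟩, hcen r⟩ : center R)) := by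
    intro r s hrs
    obtain ⟨h1, h2⟩ := Prod.ext_iff.1 hrs
    obtain ⟨ha, hb⟩ := Prod.ext_iff.1 h1
    have h3 : x ^ (a r : ℕ) * y ^ (b r : ℕ) * (r : GL ι F) = x ^ (a s : ℕ) * y ^ (b s : ℕ) * (s : GL ι F) :=
      congrArg (fun c : center R => ((c : R) : GL ι F)) h2
    simp only at ha hb
    rw [ha, hb] at h3
    exact Subtype.ext (mul_left_cancel h3)
  have := Nat.card_le_card_of_injective _ hinj
  rw [Nat.card_prod, Nat.card_prod, Nat.card_fin] at this
  omega

/-- scalars in `R` -/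
theorem Setting.scalar_sq [Nonempty ι] (hR : Setting R) {g : GL ι F} (hg : g ∈ R) {c : F}
    (hc : (g : Matrix ι ι F) = c • 1) : c * c = 1 ∨ c * c = -1 := by
  rcases hR.square hg with h | h
  · left
    rw [hc, smul_mul_assoc, one_mul, smul_smul] at h
    simpa using congrFun (congrFun h (Classical.arbitrary ι)) (Classical.arbitrary ι)
  · right
    rw [hc, smul_mul_assoc, one_mul, smul_smul] at h
    simpa using congrFun (congrFun h (Classical.arbitrary ι)) (Classical.arbitrary ι)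

/-- every element is a scalar times one of the sixteen products -/
theorem Setting.exists_word [Nonempty ι] (hR : Setting R) (hι : Fintype.card ι = 4) {A B J K : GL ι F}
    (hA : A ∈ R) (hB : B ∈ R) (hJ : J ∈ R) (hK : K ∈ R)
    (hrel : Rels (A : Matrix ι ι F) B J K) {r : GL ι F} (hr : r ∈ R) :
    ∃ (a b c d : Fin 2) (s : F), ((A ^ (a : ℕ) * B ^ (b : ℕ) * J ^ (c : ℕ) * K ^ (d : ℕ) * r : GL ι F) : Matrix ι ι F) =
      s • 1 := by
  obtain ⟨b, hb⟩ : ∃ b : Fin 2, (r : Matrix ι ι F) * A = Rels.sgn (F := F) b • ((A : Matrix ι ι F) * r) := by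
    rcases hR.sign hr hA with h | h
    exacts [⟨0, by simpa [Rels.sgn] using h⟩, ⟨1, by simpa [Rels.sgn] using h⟩]
  obtain ⟨a, ha⟩ : ∃ b : Fin 2, (r : Matrix ι ι F) * B = Rels.sgn (F := F) b • ((B : Matrix ι ι F) * r) := by
    rcases hR.sign hr hB with h | h
    exacts [⟨0, by simpa [Rels.sgn] using h⟩, ⟨1, by simpa [Rels.sgn] using h⟩]
  obtain ⟨d, hd⟩ : ∃ b : Fin 2, (r : Matrix ι ι F) * J = Rels.sgn (F := F) b • ((J : Matrix ι ι F) * r) := by
    rcases hR.sign hr hJ with h | h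
    exacts [⟨0, by simpa [Rels.sgn] using h⟩, ⟨1, by simpa [Rels.sgn] using h⟩]
  obtain ⟨c, hc⟩ : ∃ b : Fin 2, (r : Matrix ι ι F) * K = Rels.sgn (F := F) b • ((K : Matrix ι ι F) * r) := by
    rcases hR.sign hr hK with h | h
    exacts [⟨0, by simpa [Rels.sgn] using h⟩, ⟨1, by simpa [Rels.sgn] using h⟩]
  obtain ⟨X, hX⟩ : ∃ X : Matrix ι ι F, X =
      ((A ^ (a : ℕ) * B ^ (b : ℕ) * J ^ (c : ℕ) * K ^ (d : ℕ) * r : GL ι F) : Matrix ι ι F) := ⟨_, rfl⟩
  obtain ⟨s, hs⟩ := hrel.scalar_of_comm hR.two hι (X := X) (by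
      subst hX
      fin_cases a <;> fin_cases b <;> fin_cases c <;> fin_cases d <;>
        simp [mul_assoc, hb, Rels.sgn, hrel.AA, hrel.BA, hrel.JA, hrel.KA, hrel.AA', hrel.BA', hrel.JA', hrel.KA'])
    (by
      subst hX
      fin_cases a <;> fin_cases b <;> fin_cases c <;> fin_cases d <;>
        simp [mul_assoc, ha, Rels.sgn, hrel.BB, hrel.BA, hrel.JB, hrel.KB, hrel.BB', hrel.BA', hrel.JB', hrel.KB'])
    (by
      subst hX
      fin_cases a <;> fin_cases b <;> fin_cases c <;> fin_cases d <;>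
        simp [mul_assoc, hd, Rels.sgn, hrel.JJ, hrel.JA, hrel.JB, hrel.KJ, hrel.JJ', hrel.JA', hrel.JB', hrel.KJ'])
    (by
      subst hX
      fin_cases a <;> fin_cases b <;> fin_cases c <;> fin_cases d <;>
        simp [mul_assoc, hc, Rels.sgn, hrel.KK, hrel.KA, hrel.KB, hrel.KJ, hrel.KK', hrel.KA', hrel.KB', hrel.KJ'])
  exact ⟨a, b, c, d, s, hX ▸ hs⟩

theorem mem_of_smul {g h s : GL ι F} (hs : s ∈ R) (hg : g ∈ R) {c : F}
    (hsc : (s : Matrix ι ι F) = c • 1) (hh : (h : Matrix ι ι F) = c • (g : Matrix ι ι F)) : h ∈ R := by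
  have : h = s * g := Units.ext (by rw [hh, Units.val_mul, hsc, smul_mul_assoc, one_mul])
  exact this ▸ mul_mem hs hg

theorem Setting.exists_frame_four_of_lt [Nonempty ι] (hR : Setting R) (hι : Fintype.card ι = 4)
    (hlt : 4 * Nat.card (center R) < Nat.card R) (hZ : Nat.card (center R) = 4) :
    ∃ A B J K : GL ι F, A ∈ R ∧ B ∈ R ∧ J ∈ R ∧ K ∈ R ∧ Rels (A : Matrix ι ι F) B J K ∧
      ∃ i : F, i * i = -1 ∧ ∃ s ∈ R, (s : Matrix ι ι F) = i • 1 := by
  haveI := hR.fin
  obtain ⟨i, hi, si, hsiR, hsi⟩ : ∃ i : F, i * i = -1 ∧ ∃ s ∈ R, (s : Matrix ι ι F) = i • 1 := by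
    by_contra hcon
    push Not at hcon
    have hall : ∀ z : center R, ((z : R) : GL ι F).1 = 1 ∨ ((z : R) : GL ι F).1 = -1 := fun z => by
      obtain ⟨c, hc⟩ := (hR.scalar_iff (z : R).2).2 z.2
      rcases hR.scalar_sq (z : R).2 hc with h | h
      · rcases mul_self_eq_one_iff.1 h with rfl | rfl
        · exact Or.inl (by rw [hc, one_smul])
        · exact Or.inr (by rw [hc, neg_one_smul])
      · exact absurd hc (hcon c h _ (z : R).2)
    classical
    have hinj : Function.Injective fun z : center R => decide (((z : R) : GL ι F).1 = 1) := by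
      intro z w hzw
      simp only [decide_eq_decide] at hzw
      refine Subtype.ext (Subtype.ext (Units.ext ?_))
      rcases hall z with h | h <;> rcases hall w with h' | h'
      · rw [h, h']
      · exact absurd (h'.symm.trans (hzw.1 h)) (neg_one_ne_one hR.two)
      · exact absurd (h.symm.trans (hzw.2 h')) (neg_one_ne_one hR.two)
      · rw [h, h']
    have := Nat.card_le_card_of_injective _ hinj
    simp [hZ] at this
  have hflip : ∀ x ∈ R, ∀ ε : F, (ε = 1 ∨ ε = -1) → ∃ x' ∈ R, (x' : Matrix ι ι F) * x' = ε • 1 ∧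
      ∃ c : F, (x' : Matrix ι ι F) = c • (x : Matrix ι ι F) := by
    intro x hx ε hε
    have key : (x : Matrix ι ι F) * x = ε • 1 ∨ (x : Matrix ι ι F) * x = (-ε) • 1 := by
      rcases hR.square hx with h | h <;> rcases hε with rfl | rfl <;> simp [h]
    rcases key with h | h
    · exact ⟨x, hx, h, 1, (one_smul _ _).symm⟩
    · refine ⟨si * x, mul_mem hsiR hx, ?_, i, by rw [Units.val_mul, hsi, smul_mul_assoc, one_mul]⟩
      rw [Units.val_mul, hsi, smul_mul_assoc, one_mul, smul_mul_assoc, mul_smul_comm, smul_smul, hi, h, smul_smul]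
      simp
  obtain ⟨x, hx, hxn⟩ := hR.exists_noncentral (by omega)
  obtain ⟨y, hy, hxy⟩ := hR.exists_anticomm hx hxn
  obtain ⟨A, hA, hAA, a, ha⟩ := hflip x hx 1 (Or.inl rfl)
  obtain ⟨B, hB, hBB, b, hb⟩ := hflip y hy 1 (Or.inl rfl)
  have hAB : (A : Matrix ι ι F) * B = -((B : Matrix ι ι F) * A) := by
    simp only [ha, hb, smul_mul_assoc, mul_smul_comm, smul_smul, hxy, smul_neg, mul_comm a b]
  obtain ⟨v, hv, hvA, hvB, hvn⟩ := hR.exists_centralising (by omega) hA hB hAB
  obtain ⟨w₀, hw₀, hvw₀⟩ := hR.exists_anticomm hv hvn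
  obtain ⟨w, hw, hwA, hwB, hvw⟩ : ∃ w ∈ R, (w : Matrix ι ι F) * A = (A : Matrix ι ι F) * w ∧
      (w : Matrix ι ι F) * B = (B : Matrix ι ι F) * w ∧ (v : Matrix ι ι F) * w = -((w : Matrix ι ι F) * v) := by
    have e1 : ∀ X : Matrix ι ι F, (B : Matrix ι ι F) * (A * X) = -((A : Matrix ι ι F) * (B * X)) := fun X => by
      rw [← mul_assoc, ← neg_eq_iff_eq_neg.2 hAB, neg_mul, mul_assoc]
    have hBA : (B : Matrix ι ι F) * A = -((A : Matrix ι ι F) * B) := by rw [hAB, neg_neg]
    rcases hR.sign hw₀ hA with h1 | h1 <;> rcases hR.sign hw₀ hB with h2 | h2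
    · exact ⟨w₀, hw₀, h1, h2, hvw₀⟩
    · refine ⟨A * w₀, mul_mem hA hw₀, ?_, ?_, ?_⟩ <;>
        simp only [Units.val_mul, mul_assoc, h1, h2, e1, mul_neg, neg_mul, neg_neg]
      rw [← mul_assoc, hvA, mul_assoc, hvw₀, mul_neg]
    · refine ⟨B * w₀, mul_mem hB hw₀, ?_, ?_, ?_⟩ <;>
        simp only [Units.val_mul, mul_assoc, h1, h2, e1, mul_neg, neg_mul, neg_neg]
      rw [← mul_assoc, hvB, mul_assoc, hvw₀, mul_neg]
    · refine ⟨A * (B * w₀), mul_mem hA (mul_mem hB hw₀), ?_, ?_, ?_⟩ <;>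
        simp only [Units.val_mul, mul_assoc, h1, h2, e1, mul_neg, neg_mul, neg_neg]
      rw [← mul_assoc, hvA, mul_assoc, ← mul_assoc (v : Matrix ι ι F), hvB, mul_assoc, hvw₀, mul_neg, mul_neg]
  obtain ⟨J, hJ, hJJ, j, hj⟩ := hflip v hv (-1) (Or.inr rfl)
  obtain ⟨K, hK, hKK, k, hk⟩ := hflip w hw (-1) (Or.inr rfl)
  refine ⟨A, B, J, K, hA, hB, hJ, hK, ⟨by simpa using hAA, by simpa using hBB, by simpa using hJJ, by simpa using hKK,
    by rw [hAB, neg_neg], ?_, ?_, ?_, ?_, ?_⟩, i, hi, si, hsiR, hsi⟩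
  · simp only [hj, smul_mul_assoc, mul_smul_comm, hvA]
  · simp only [hj, smul_mul_assoc, mul_smul_comm, hvB]
  · simp only [hk, smul_mul_assoc, mul_smul_comm, hwA]
  · simp only [hk, smul_mul_assoc, mul_smul_comm, hwB]
  · simp only [hj, hk, smul_mul_assoc, mul_smul_comm, smul_smul, hvw, smul_neg, neg_neg, mul_comm j k]

theorem Setting.exists_frame_four [Nonempty ι] (hR : Setting R) (hι : Fintype.card ι = 4)
    (hcard : Nat.card R = 64) (hZ : Nat.card (center R) = 4) :
    ∃ A B J K : GL ι F, A ∈ R ∧ B ∈ R ∧ J ∈ R ∧ K ∈ R ∧ Rels (A : Matrix ι ι F) B J K ∧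
      ∃ i : F, i * i = -1 ∧ ∃ s ∈ R, (s : Matrix ι ι F) = i • 1 :=
  hR.exists_frame_four_of_lt hι (by omega) hZ

theorem Setting.exists_frame_minus [Nonempty ι] (hR : Setting R) (hι : Fintype.card ι = 4)
    (hcard : Nat.card R = 32) (hZ : Nat.card (center R) = 2) (hm : Cfsg.Geo.IsOfMinusType 2 R) :
    ∃ A B J K : GL ι F, A ∈ R ∧ B ∈ R ∧ J ∈ R ∧ K ∈ R ∧ Rels (A : Matrix ι ι F) B J K ∧
      ∀ g ∈ R, ∀ c : F, (g : Matrix ι ι F) = c • 1 → c * c = 1 := by
  haveI := hR.fin
  have hsc : ∀ g ∈ R, ∀ c : F, (g : Matrix ι ι F) = c • 1 → c * c = 1 := by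
    intro g hg c hc
    have hgc := (hR.scalar_iff hg).1 ⟨c, hc⟩
    have h : (⟨⟨g, hg⟩, hgc⟩ : center R) ^ 2 = 1 := by rw [← hZ]; exact pow_card_eq_one'
    have h' := congrArg (fun z : center R => (((z : R) : GL ι F) : Matrix ι ι F)) h
    simp [sq, hc, smul_smul] at h'
    simpa using congrFun (congrFun h' (Classical.arbitrary ι)) (Classical.arbitrary ι)
  obtain ⟨A, hA, B₀, hB₀, hAA, hAB₀⟩ : ∃ A ∈ R, ∃ B ∈ R, (A : Matrix ι ι F) * A = 1 ∧
      (A : Matrix ι ι F) * B = -((B : Matrix ι ι F) * A) := by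
    obtain ⟨x, hx, hxn⟩ := hR.exists_noncentral (by omega)
    obtain ⟨y, hy, hxy⟩ := hR.exists_anticomm hx hxn
    rcases hR.square hx with h | hxx
    · exact ⟨x, hx, y, hy, h, hxy⟩
    rcases hR.square hy with h | hyy
    · exact ⟨y, hy, x, hx, h, by rw [hxy, neg_neg]⟩
    obtain ⟨j, hj, hjx, hjy, hjn⟩ := hR.exists_centralising (by omega) hx hy hxy
    rcases hR.square hj with h | hjj
    · obtain ⟨w, hw, hjw⟩ := hR.exists_anticomm hj hjn
      exact ⟨j, hj, w, hw, h, hjw⟩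
    refine ⟨x * j, mul_mem hx hj, y, hy, ?_, ?_⟩
    · rw [Units.val_mul]
      calc (x : Matrix ι ι F) * j * ((x : Matrix ι ι F) * j) = (x : Matrix ι ι F) * ((j : Matrix ι ι F) * x) * j := by
            simp only [mul_assoc]
        _ = ((x : Matrix ι ι F) * x) * ((j : Matrix ι ι F) * j) := by rw [hjx]; simp only [mul_assoc]
        _ = 1 := by rw [hxx, hjj, neg_one_mul, neg_neg]
    · rw [Units.val_mul, mul_assoc, hjy, ← mul_assoc, hxy, neg_mul, mul_assoc]
  obtain ⟨B, hB, hBB, hAB⟩ : ∃ B ∈ R, (B : Matrix ι ι F) * B = 1 ∧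
      (A : Matrix ι ι F) * B = -((B : Matrix ι ι F) * A) := by
    rcases hR.square hB₀ with h | h
    · exact ⟨B₀, hB₀, h, hAB₀⟩
    refine ⟨A * B₀, mul_mem hA hB₀, ?_, ?_⟩
    · rw [Units.val_mul]
      calc (A : Matrix ι ι F) * B₀ * ((A : Matrix ι ι F) * B₀)
          = (A : Matrix ι ι F) * ((B₀ : Matrix ι ι F) * A) * B₀ := by simp only [mul_assoc]
        _ = 1 := by rw [← neg_eq_iff_eq_neg.2 hAB₀]; simp [← mul_assoc, hAA, h]
    · rw [Units.val_mul, ← mul_assoc, hAA, one_mul, mul_assoc, ← neg_eq_iff_eq_neg.2 hAB₀, mul_neg, neg_neg,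
        ← mul_assoc, hAA, one_mul]
  obtain ⟨J, hJ, hJA, hJB, hJn⟩ := hR.exists_centralising (by omega) hA hB hAB
  obtain ⟨w₀, hw₀, hJw₀⟩ := hR.exists_anticomm hJ hJn
  have e1 : ∀ X : Matrix ι ι F, (B : Matrix ι ι F) * (A * X) = -((A : Matrix ι ι F) * (B * X)) := fun X => by
    rw [← mul_assoc, ← neg_eq_iff_eq_neg.2 hAB, neg_mul, mul_assoc]
  have hBA : (B : Matrix ι ι F) * A = -((A : Matrix ι ι F) * B) := by rw [hAB, neg_neg]
  obtain ⟨K, hK, hKA, hKB, hJK⟩ : ∃ w ∈ R, (w : Matrix ι ι F) * A = (A : Matrix ι ι F) * w ∧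
      (w : Matrix ι ι F) * B = (B : Matrix ι ι F) * w ∧ (J : Matrix ι ι F) * w = -((w : Matrix ι ι F) * J) := by
    rcases hR.sign hw₀ hA with h1 | h1 <;> rcases hR.sign hw₀ hB with h2 | h2
    · exact ⟨w₀, hw₀, h1, h2, hJw₀⟩
    · refine ⟨A * w₀, mul_mem hA hw₀, ?_, ?_, ?_⟩ <;>
        simp only [Units.val_mul, mul_assoc, h1, h2, e1, mul_neg, neg_mul, neg_neg]
      rw [← mul_assoc, hJA, mul_assoc, hJw₀, mul_neg]
    · refine ⟨B * w₀, mul_mem hB hw₀, ?_, ?_, ?_⟩ <;>
        simp only [Units.val_mul, mul_assoc, h1, h2, e1, mul_neg, neg_mul, neg_neg]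
      rw [← mul_assoc, hJB, mul_assoc, hJw₀, mul_neg]
    · refine ⟨A * (B * w₀), mul_mem hA (mul_mem hB hw₀), ?_, ?_, ?_⟩ <;>
        simp only [Units.val_mul, mul_assoc, h1, h2, e1, mul_neg, neg_mul, neg_neg]
      rw [← mul_assoc, hJA, mul_assoc, ← mul_assoc (J : Matrix ι ι F), hJB, mul_assoc, hJw₀, mul_neg, mul_neg]
  have hnoinv : ∀ v ∈ R, (v : Matrix ι ι F) * A = (A : Matrix ι ι F) * v →
      (v : Matrix ι ι F) * B = (B : Matrix ι ι F) * v → (∀ c : F, (v : Matrix ι ι F) ≠ c • 1) →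
      (v : Matrix ι ι F) * v = -1 := by
    intro v hv hvA hvB hvn
    refine (hR.square hv).resolve_left fun hvv => ?_
    obtain ⟨u, hu, hvu⟩ := hR.exists_anticomm hv hvn
    -- an elementary abelian subgroup of order eight
    obtain ⟨mo, hmo, hmoR⟩ : ∃ m : GL ι F, (m : Matrix ι ι F) = -1 ∧ m ∈ R := by
      obtain ⟨x, hx, hxn⟩ := hR.exists_noncentral (by omega)
      obtain ⟨y, hy, hxy⟩ := hR.exists_anticomm hx hxn
      refine ⟨x * y * (y * x)⁻¹, ?_, mul_mem (mul_mem hx hy) (inv_mem (mul_mem hy hx))⟩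
      have : x * y = (-1 : GL ι F) * (y * x) := Units.ext (by simpa using hxy)
      rw [this, mul_inv_cancel_right]; simp
    obtain ⟨a, ha⟩ : ∃ a : R, a = ⟨A, hA⟩ := ⟨_, rfl⟩
    obtain ⟨v', hv'⟩ : ∃ v' : R, v' = ⟨v, hv⟩ := ⟨_, rfl⟩
    obtain ⟨m, hm'⟩ : ∃ m : R, m = ⟨mo, hmoR⟩ := ⟨_, rfl⟩
    have hext : ∀ s t : R, ((s : GL ι F) : Matrix ι ι F) = ((t : GL ι F) : Matrix ι ι F) → s = t := fun s t h =>
      Subtype.ext (Units.ext h)
    have hgen : ∀ s ∈ ({m, a, v'} : Set R), ∀ t ∈ ({m, a, v'} : Set R), s * t = t * s := by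
      intro s hs t ht
      apply hext
      rcases hs with rfl | rfl | rfl <;> rcases ht with rfl | rfl | rfl <;> subst ha hv' hm' <;>
        simp [hmo, hvA]
    obtain ⟨H, hH⟩ : ∃ H : Subgroup R, H = closure {m, a, v'} := ⟨_, rfl⟩
    have hHc : IsMulCommutative H := hH ▸ isMulCommutative_closure hgen
    have hsq : ∀ x ∈ H, x * x = 1 := by
      intro x hx
      rw [hH] at hx
      induction hx using closure_induction with
      | mem s hs =>
        apply hext
        rcases hs with rfl | rfl | rfl <;> subst ha hv' hm' <;> simp [hmo, hvv, hAA]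
      | one => simp
      | mul s t hs ht ihs iht =>
        have hst : s * t = t * s := congrArg Subtype.val
          ((isMulCommutative_closure hgen).is_comm.comm ⟨s, hs⟩ ⟨t, ht⟩)
        calc s * t * (s * t) = s * (t * s) * t := by group
          _ = (s * s) * (t * t) := by rw [← hst]; group
          _ = 1 := by rw [ihs, iht, one_mul]
      | inv s _ ihs => rw [← _root_.mul_inv_rev, ihs, inv_one]
    have h8 := hm H hHc hsq
    let f : Fin 2 × Fin 2 × Fin 2 → H := fun e => ⟨m ^ (e.1 : ℕ) * a ^ (e.2.1 : ℕ) * v' ^ (e.2.2 : ℕ), by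
      rw [hH]
      exact mul_mem (mul_mem (pow_mem (subset_closure (by simp)) _) (pow_mem (subset_closure (by simp)) _))
        (pow_mem (subset_closure (by simp)) _)⟩
    have hinj : Function.Injective f := by
      rintro ⟨i, j, k⟩ ⟨i', j', k'⟩ he
      have he' := congrArg (fun x : H => (((x : R) : GL ι F) : Matrix ι ι F)) he
      subst ha hv' hm'
      have hsg : ∀ i j k : Fin 2, (-1 : Matrix ι ι F) ^ (i : ℕ) * (A : Matrix ι ι F) ^ (j : ℕ) * (v : Matrix ι ι F) ^ (k : ℕ) *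
          B = Rels.sgn (F := F) j • ((B : Matrix ι ι F) *
            ((-1 : Matrix ι ι F) ^ (i : ℕ) * (A : Matrix ι ι F) ^ (j : ℕ) * (v : Matrix ι ι F) ^ (k : ℕ))) := by
        intro i j k
        fin_cases i <;> fin_cases j <;> fin_cases k <;> simp [Rels.sgn, mul_assoc, hvB, hBA, e1]
      have hsu : ∀ i j k : Fin 2, (u : Matrix ι ι F) * A = (A : Matrix ι ι F) * u →
          (-1 : Matrix ι ι F) ^ (i : ℕ) * (A : Matrix ι ι F) ^ (j : ℕ) * (v : Matrix ι ι F) ^ (k : ℕ) *
          u = Rels.sgn (F := F) k • ((u : Matrix ι ι F) *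
            ((-1 : Matrix ι ι F) ^ (i : ℕ) * (A : Matrix ι ι F) ^ (j : ℕ) * (v : Matrix ι ι F) ^ (k : ℕ))) := by
        intro i j k huA
        have h' : ∀ X : Matrix ι ι F, (u : Matrix ι ι F) * (A * X) = (A : Matrix ι ι F) * (u * X) := fun X => by
          rw [← mul_assoc, huA, mul_assoc]
        fin_cases i <;> fin_cases j <;> fin_cases k <;> simp [Rels.sgn, mul_assoc, hvu, huA, h']
      have hsu' : ∀ i j k : Fin 2, (u : Matrix ι ι F) * A = -((A : Matrix ι ι F) * u) →
          (-1 : Matrix ι ι F) ^ (i : ℕ) * (A : Matrix ι ι F) ^ (j : ℕ) * (v : Matrix ι ι F) ^ (k : ℕ) *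
          u = (Rels.sgn (F := F) k * Rels.sgn j) • ((u : Matrix ι ι F) *
            ((-1 : Matrix ι ι F) ^ (i : ℕ) * (A : Matrix ι ι F) ^ (j : ℕ) * (v : Matrix ι ι F) ^ (k : ℕ))) := by
        intro i j k huA
        have h' : ∀ X : Matrix ι ι F, (u : Matrix ι ι F) * (A * X) = -((A : Matrix ι ι F) * (u * X)) := fun X => by
          rw [← mul_assoc, huA, neg_mul, mul_assoc]
        fin_cases i <;> fin_cases j <;> fin_cases k <;> simp [Rels.sgn, mul_assoc, hvu, huA, h']
      simp only [f, Subgroup.coe_mul, SubgroupClass.coe_pow, Units.val_mul, Units.val_pow_eq_pow_val, hmo] at he'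
      obtain ⟨X, hX⟩ : ∃ X : GL ι F, X = mo ^ (i : ℕ) * A ^ (j : ℕ) * v ^ (k : ℕ) := ⟨_, rfl⟩
      have hXv : (X : Matrix ι ι F) = (-1 : Matrix ι ι F) ^ (i : ℕ) * (A : Matrix ι ι F) ^ (j : ℕ) * (v : Matrix ι ι F) ^ (k : ℕ) := by
        rw [hX]; simp [hmo]
      have hne : ∀ (Y : GL ι F) (s t : F), s • ((Y : Matrix ι ι F) * X) = t • ((Y : Matrix ι ι F) * X) → s = t := by
        intro Y s t hst
        rw [← sub_eq_zero, ← sub_smul] at hst
        exact sub_eq_zero.1 ((smul_eq_zero.1 hst).resolve_right (Y * X).ne_zero)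
      have hs2 : ∀ s t : Fin 2, Rels.sgn (F := F) s = Rels.sgn t → s = t := by
        intro s t hst
        fin_cases s <;> fin_cases t <;> simp [Rels.sgn] at hst ⊢
        · exact hR.two (by linear_combination hst)
        · exact hR.two (by linear_combination -hst)
      have hj : j = j' := hs2 _ _ (hne B (Rels.sgn j) (Rels.sgn j') (by
        have h1 := hsg i j k
        rw [he', hsg i' j' k', ← he'] at h1
        rw [hXv]; exact h1.symm))
      have hk : k = k' := by
        rcases hR.sign hu hA with huA | huA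
        · exact hs2 _ _ (hne u (Rels.sgn k) (Rels.sgn k') (by
            have h1 := hsu i j k huA
            rw [he', hsu i' j' k' huA, ← he'] at h1
            rw [hXv]; exact h1.symm))
        · have h2 := hne u (Rels.sgn k * Rels.sgn j) (Rels.sgn k' * Rels.sgn j') (by
            have h1 := hsu' i j k huA
            rw [he', hsu' i' j' k' huA, ← he'] at h1
            rw [hXv]; exact h1.symm)
          rw [hj] at h2
          refine hs2 _ _ (mul_right_cancel₀ ?_ h2)
          fin_cases j' <;> simp [Rels.sgn]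
      subst hj hk
      have hi : (-1 : Matrix ι ι F) ^ (i : ℕ) = (-1) ^ (i' : ℕ) := by
        have hu2 : IsUnit ((A : Matrix ι ι F) ^ (j : ℕ) * (v : Matrix ι ι F) ^ (k : ℕ)) :=
          ((Units.isUnit _).pow _).mul ((Units.isUnit _).pow _)
        exact hu2.mul_right_cancel (by simpa [mul_assoc] using he')
      have : i = i' := by
        fin_cases i <;> fin_cases i' <;> simp [neg_one_ne_one hR.two, (neg_one_ne_one hR.two).symm] at hi ⊢
      subst this; rfl
    have := Nat.card_le_card_of_injective f hinj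
    simp only [Nat.card_prod, Nat.card_fin] at this
    omega
  refine ⟨A, B, J, K, hA, hB, hJ, hK, ⟨hAA, hBB, hnoinv J hJ hJA hJB hJn, hnoinv K hK hKA hKB
    (not_scalar_of_anticomm hR.two (y := J) (by rw [hJK, neg_neg])), hBA, hJA, hJB, hKA, hKB, by rw [hJK, neg_neg]⟩, hsc⟩

end CfsgLib.Perm.Elusive.STFour
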