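import Mathlib
import Cfsg.Prelude.Def_GeometricClasses
import Cfsg.Agent.Lib.Perm.Elusive.STFour.Frame

/-!
# The normaliser acting on the sixteen classes
-/

set_option autoImplicit false
set_option linter.all false

namespace CfsgLib.Perm.Elusive.STFour

open scoped Matrix

variable {ι : Type} [Fintype ι] [DecidableEq ι] {F : Type*} [Field F]

/-- the symplectic type group with a chosen frame -/
structure Frame (R : Subgroup (GL ι F)) (A B J K : GL ι F) : Prop where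
  setting : Setting R
  card : Fintype.card ι = 4
  hA : A ∈ R
  hB : B ∈ R
  hJ : J ∈ R
  hK : K ∈ R
  rels : Rels (A : Matrix ι ι F) B J K

abbrev Cls := Fin 2 × Fin 2 × Fin 2 × Fin 2

/-- zero for commuting elements, one otherwise -/
noncomputable def bit (x y : GL ι F) : Fin 2 :=
  @ite (Fin 2) ((x : Matrix ι ι F) * y = (y : Matrix ι ι F) * x) (Classical.propDecidable _) 0 1

/-- the class of an element -/
noncomputable def cls (A B J K x : GL ι F) : Cls := (bit x B, bit x A, bit x K, bit x J)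

/-- the products as group elements -/
def wd (A B J K : GL ι F) (e : Cls) : GL ι F := A ^ (e.1 : ℕ) * B ^ (e.2.1 : ℕ) * J ^ (e.2.2.1 : ℕ) * K ^ (e.2.2.2 : ℕ)

variable {R : Subgroup (GL ι F)} {A B J K : GL ι F}

theorem sgn_inj (h2 : (2 : F) ≠ 0) {s t : Fin 2} (h : Rels.sgn (F := F) s = Rels.sgn t) : s = t := by
  fin_cases s <;> fin_cases t <;> simp [Rels.sgn] at h ⊢
  · exact h2 (by linear_combination h)
  · exact h2 (by linear_combination -h)

theorem sgn_add (s t : Fin 2) : Rels.sgn (F := F) (s + t) = Rels.sgn s * Rels.sgn t := by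
  fin_cases s <;> fin_cases t <;> simp [Rels.sgn]

theorem Frame.nonempty (hF : Frame R A B J K) : Nonempty ι := Fintype.card_pos_iff.1 (by rw [hF.card]; norm_num)

theorem Frame.bit_spec (hF : Frame R A B J K) {x y : GL ι F} (hx : x ∈ R) (hy : y ∈ R) :
    (x : Matrix ι ι F) * y = Rels.sgn (F := F) (bit x y) • ((y : Matrix ι ι F) * x) := by
  haveI := hF.nonempty
  unfold bit
  by_cases h : (x : Matrix ι ι F) * y = (y : Matrix ι ι F) * x
  · rw [if_pos h]; simp [Rels.sgn, h]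
  · rw [if_neg h]
    rcases hF.setting.sign hx hy with h' | h'
    · exact absurd h' h
    · simp [Rels.sgn, h']

theorem Frame.bit_eq (hF : Frame R A B J K) {x y : GL ι F} (hx : x ∈ R) (hy : y ∈ R) {s : Fin 2}
    (h : (x : Matrix ι ι F) * y = Rels.sgn (F := F) s • ((y : Matrix ι ι F) * x)) : bit x y = s := by
  haveI := hF.nonempty
  refine sgn_inj hF.setting.two ?_
  have h' := (hF.bit_spec hx hy).symm.trans h
  rw [← sub_eq_zero, ← sub_smul] at h'
  exact sub_eq_zero.1 ((smul_eq_zero.1 h').resolve_right (y * x).ne_zero)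

theorem Frame.bit_comm (hF : Frame R A B J K) {x y : GL ι F} (hx : x ∈ R) (hy : y ∈ R) : bit x y = bit y x := by
  refine (hF.bit_eq hy hx ?_).symm
  rw [hF.bit_spec hx hy, smul_smul, ← sgn_add]
  have : ∀ s : Fin 2, s + s = 0 := by decide
  rw [this]; simp [Rels.sgn]

theorem Frame.bit_mul (hF : Frame R A B J K) {x x' y : GL ι F} (hx : x ∈ R) (hx' : x' ∈ R) (hy : y ∈ R) :
    bit (x * x') y = bit x y + bit x' y := by
  refine hF.bit_eq (mul_mem hx hx') hy ?_
  rw [sgn_add, Units.val_mul, mul_assoc, hF.bit_spec hx' hy, mul_smul_comm, ← mul_assoc, hF.bit_spec hx hy,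
    smul_mul_assoc, smul_smul, mul_assoc, mul_comm]

theorem Frame.bit_one (hF : Frame R A B J K) (y : GL ι F) : bit (1 : GL ι F) y = 0 := by simp [bit]

theorem Frame.bit_pow (hF : Frame R A B J K) {x y : GL ι F} (hx : x ∈ R) (hy : y ∈ R) (s : Fin 2) :
    bit (x ^ (s : ℕ)) y = s * bit x y := by
  fin_cases s
  · simpa using hF.bit_one y
  · simp

theorem Frame.wd_mem (hF : Frame R A B J K) (e : Cls) : wd A B J K e ∈ R :=
  mul_mem (mul_mem (mul_mem (pow_mem hF.hA _) (pow_mem hF.hB _)) (pow_mem hF.hJ _)) (pow_mem hF.hK _)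

theorem Frame.bit_wd (hF : Frame R A B J K) {y : GL ι F} (hy : y ∈ R) (e : Cls) :
    bit (wd A B J K e) y = e.1 * bit A y + e.2.1 * bit B y + e.2.2.1 * bit J y + e.2.2.2 * bit K y := by
  unfold wd
  rw [hF.bit_mul (mul_mem (mul_mem (pow_mem hF.hA _) (pow_mem hF.hB _)) (pow_mem hF.hJ _)) (pow_mem hF.hK _) hy,
    hF.bit_mul (mul_mem (pow_mem hF.hA _) (pow_mem hF.hB _)) (pow_mem hF.hJ _) hy,
    hF.bit_mul (pow_mem hF.hA _) (pow_mem hF.hB _) hy, hF.bit_pow hF.hA hy, hF.bit_pow hF.hB hy,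
    hF.bit_pow hF.hJ hy, hF.bit_pow hF.hK hy]

theorem Frame.bit_gens (hF : Frame R A B J K) :
    (bit A A = 0 ∧ bit B B = 0 ∧ bit J J = 0 ∧ bit K K = 0) ∧
    (bit A B = 1 ∧ bit B A = 1 ∧ bit J K = 1 ∧ bit K J = 1) ∧
    (bit A J = 0 ∧ bit A K = 0 ∧ bit B J = 0 ∧ bit B K = 0 ∧ bit J A = 0 ∧ bit K A = 0 ∧ bit J B = 0 ∧ bit K B = 0) := by
  have h := hF.rels
  have hab : bit A B = 1 := hF.bit_eq hF.hA hF.hB (by simp [Rels.sgn, h.BA])
  have hjk : bit J K = 1 := hF.bit_eq hF.hJ hF.hK (by simp [Rels.sgn, h.KJ])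
  refine ⟨⟨by simp [bit], by simp [bit], by simp [bit], by simp [bit]⟩,
    ⟨hab, hF.bit_comm hF.hA hF.hB ▸ hab, hjk, hF.bit_comm hF.hJ hF.hK ▸ hjk⟩, ?_⟩
  simp [bit, h.JA, h.KA, h.JB, h.KB]

theorem Frame.cls_wd (hF : Frame R A B J K) (e : Cls) : cls A B J K (wd A B J K e) = e := by
  obtain ⟨⟨h1, h2, h3, h4⟩, ⟨h5, h6, h7, h8⟩, h9, h10, h11, h12, h13, h14, h15, h16⟩ := hF.bit_gens
  simp [cls, hF.bit_wd hF.hA, hF.bit_wd hF.hB, hF.bit_wd hF.hJ, hF.bit_wd hF.hK, h1, h2, h3, h4, h5, h6, h7, h8,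
    h9, h10, h11, h12, h13, h14, h15, h16]

theorem Frame.cls_mul (hF : Frame R A B J K) {x y : GL ι F} (hx : x ∈ R) (hy : y ∈ R) :
    cls A B J K (x * y) = cls A B J K x + cls A B J K y := by
  simp [cls, hF.bit_mul hx hy, hF.hA, hF.hB, hF.hJ, hF.hK]

theorem Frame.cls_eq_zero (hF : Frame R A B J K) {x : GL ι F} (hx : x ∈ R) :
    cls A B J K x = 0 ↔ ∃ c : F, (x : Matrix ι ι F) = c • 1 := by
  refine ⟨fun h => ?_, fun ⟨c, hc⟩ => ?_⟩
  · simp only [cls, Prod.ext_iff] at h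
    obtain ⟨hb, ha, hk, hj⟩ := h
    have key : ∀ y ∈ R, bit x y = 0 → (y : Matrix ι ι F) * x = (x : Matrix ι ι F) * y := fun y hy hb => by
      have := hF.bit_spec hx hy
      rw [hb] at this
      simpa [Rels.sgn] using this.symm
    exact hF.rels.scalar_of_comm hF.setting.two hF.card (key A hF.hA ha) (key B hF.hB hb) (key J hF.hJ hj)
      (key K hF.hK hk)
  · simp [cls, bit, hc]

/-- elements of the same class differ by a scalar -/
theorem Frame.eq_smul_of_cls (hF : Frame R A B J K) {x y : GL ι F} (hx : x ∈ R) (hy : y ∈ R)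
    (h : cls A B J K x = cls A B J K y) : ∃ c : F, (x : Matrix ι ι F) = c • (y : Matrix ι ι F) := by
  have h0 : cls A B J K (x * y⁻¹) = 0 := by
    have := hF.cls_mul (mul_mem hx (inv_mem hy)) hy
    rw [inv_mul_cancel_right, h] at this
    exact left_eq_add.1 (by rw [add_comm]; exact this)
  obtain ⟨c, hc⟩ := (hF.cls_eq_zero (mul_mem hx (inv_mem hy))).1 h0
  refine ⟨c, ?_⟩
  rw [← inv_mul_cancel_right x y, Units.val_mul, hc, smul_mul_assoc, one_mul]

theorem Frame.bit_congr (hF : Frame R A B J K) {x x' y : GL ι F} (hx : x ∈ R) (hx' : x' ∈ R) (hy : y ∈ R)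
    (h : cls A B J K x = cls A B J K x') : bit x y = bit x' y := by
  obtain ⟨c, hc⟩ := hF.eq_smul_of_cls hx hx' h
  refine hF.bit_eq hx hy ?_
  rw [hc, smul_mul_assoc, hF.bit_spec hx' hy, mul_smul_comm, smul_comm]

/-- an element of the normaliser whose conjugation fixes the four generators up to membership -/
theorem Frame.mem_normalizer (hF : Frame R A B J K) {g : GL ι F}
    (hA : g * A * g⁻¹ ∈ R) (hB : g * B * g⁻¹ ∈ R) (hJ : g * J * g⁻¹ ∈ R) (hK : g * K * g⁻¹ ∈ R) :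
    g ∈ Cfsg.Geo.subgroupNormalizer R := by
  haveI := hF.setting.fin
  show g ∈ Subgroup.normalizer (R : Set (GL ι F))
  rw [Subgroup.mem_normalizer_iff_map_conj_eq]
  refine Subgroup.eq_of_le_of_card_ge ?_ (Nat.card_congr (R.equivMapOfInjective _ (MulAut.conj g).injective).toEquiv).le
  rintro _ ⟨r, hr, rfl⟩
  show g * r * g⁻¹ ∈ R
  obtain ⟨c, hc⟩ := hF.eq_smul_of_cls hr (hF.wd_mem _) (hF.cls_wd (cls A B J K r)).symm
  obtain ⟨w, hw⟩ : ∃ w, w = wd A B J K (cls A B J K r) := ⟨_, rfl⟩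
  have hs : r * w⁻¹ ∈ R := mul_mem hr (inv_mem (hw ▸ hF.wd_mem _))
  have hsc : g * (r * w⁻¹) * g⁻¹ = r * w⁻¹ := by
    rw [mul_inv_eq_iff_eq_mul]
    refine Units.ext ?_
    have : ((r * w⁻¹ : GL ι F) : Matrix ι ι F) = c • 1 := by
      rw [Units.val_mul, hc, ← hw, smul_mul_assoc, ← Units.val_mul, mul_inv_cancel, Units.val_one]
    rw [Units.val_mul g, Units.val_mul (r * w⁻¹), this, mul_smul_comm, mul_one, smul_mul_assoc, one_mul]
  have hwR : g * w * g⁻¹ ∈ R := by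
    have e : g * w * g⁻¹ = (g * A * g⁻¹) ^ ((cls A B J K r).1 : ℕ) * (g * B * g⁻¹) ^ ((cls A B J K r).2.1 : ℕ) *
        (g * J * g⁻¹) ^ ((cls A B J K r).2.2.1 : ℕ) * (g * K * g⁻¹) ^ ((cls A B J K r).2.2.2 : ℕ) := by
      rw [hw, conj_pow, conj_pow, conj_pow, conj_pow, wd]; group
    rw [e]
    exact mul_mem (mul_mem (mul_mem (pow_mem hA _) (pow_mem hB _)) (pow_mem hJ _)) (pow_mem hK _)
  have e : g * r * g⁻¹ = (g * (r * w⁻¹) * g⁻¹) * (g * w * g⁻¹) := by group
  rw [e, hsc]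
  exact mul_mem hs hwR

/-- scalars normalise -/
theorem scalar_mem_normalizer {g : GL ι F} {c : F} (hg : (g : Matrix ι ι F) = c • 1) :
    g ∈ Cfsg.Geo.subgroupNormalizer R := by
  show g ∈ Subgroup.normalizer (R : Set (GL ι F))
  rw [Subgroup.mem_normalizer_iff]
  intro h
  have : g * h = h * g := Units.ext (by rw [Units.val_mul, Units.val_mul, hg]; simp)
  rw [this, mul_inv_cancel_right]

theorem conj_mem {g x : GL ι F} (hg : g ∈ Cfsg.Geo.subgroupNormalizer R) (hx : x ∈ R) : g * x * g⁻¹ ∈ R :=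
  (Subgroup.mem_normalizer_iff.1 hg x).1 hx

theorem pow_conj_mem {g x : GL ι F} (hg : g ∈ Cfsg.Geo.subgroupNormalizer R) (hx : x ∈ R) (k : ℕ) :
    g ^ k * x * (g ^ k)⁻¹ ∈ R := conj_mem (pow_mem hg k) hx

/-- scalar after two coprime powers -/
theorem scalar_of_coprime {g : GL ι F} {a b : ℕ} (hab : a.Coprime b) {c d : F}
    (ha : ((g ^ a : GL ι F) : Matrix ι ι F) = c • 1) (hb : ((g ^ b : GL ι F) : Matrix ι ι F) = d • 1) :
    ∃ e : F, (g : Matrix ι ι F) = e • 1 := by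
  have key : ∀ (k : ℤ) (w : GL ι F) (c : F), (w : Matrix ι ι F) = c • 1 →
      ∃ e : F, ((w ^ k : GL ι F) : Matrix ι ι F) = e • 1 := by
    intro k w c hw
    have hinv : ∃ e : F, ((w⁻¹ : GL ι F) : Matrix ι ι F) = e • 1 := by
      refine ⟨c⁻¹, ?_⟩
      rw [Matrix.coe_units_inv, hw]
      rcases eq_or_ne c 0 with rfl | h0
      · simp
      · exact Matrix.inv_eq_left_inv (by rw [smul_mul_assoc, one_mul, smul_smul, inv_mul_cancel₀ h0, one_smul])
    obtain ⟨n, rfl | rfl⟩ := k.eq_nat_or_neg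
    · exact ⟨c ^ n, by rw [zpow_natCast, Units.val_pow_eq_pow_val, hw, smul_pow, one_pow]⟩
    · obtain ⟨e, he⟩ := hinv
      exact ⟨e ^ n, by rw [zpow_neg, ← inv_zpow, zpow_natCast, Units.val_pow_eq_pow_val, he, smul_pow, one_pow]⟩
  obtain ⟨e, he⟩ := key (a.gcdA b) _ c ha
  obtain ⟨f, hf⟩ := key (a.gcdB b) _ d hb
  refine ⟨e * f, ?_⟩
  have h1 : g = (g ^ a) ^ a.gcdA b * (g ^ b) ^ a.gcdB b := by
    rw [← zpow_natCast, ← zpow_natCast, ← zpow_mul, ← zpow_mul, ← _root_.zpow_add, ← Nat.gcd_eq_gcd_ab,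
      hab.gcd_eq_one]
    simp
  rw [h1, Units.val_mul, he, hf, smul_mul_assoc, one_mul, smul_smul]

/-- an element of odd order modulo scalars centralises a fixed class -/
theorem Frame.comm_of_fix (hF : Frame R A B J K) {g : GL ι F} (hg : g ∈ Cfsg.Geo.subgroupNormalizer R)
    {r : ℕ} (hr : Odd r) {z : F} (hz : ((g ^ r : GL ι F) : Matrix ι ι F) = z • 1)
    {x : GL ι F} (hx : x ∈ R) (hfix : cls A B J K (g * x * g⁻¹) = cls A B J K x) : g * x = x * g := by
  haveI := hF.nonempty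
  obtain ⟨c, hc⟩ := hF.eq_smul_of_cls (conj_mem hg hx) hx hfix
  have hgx : (g : Matrix ι ι F) * x = c • ((x : Matrix ι ι F) * g) := by
    rw [← Units.val_mul g x, show g * x = g * x * g⁻¹ * g by group, Units.val_mul, hc, smul_mul_assoc]
  have hc2 : c * c = 1 := by
    have hsq : ((g * x * g⁻¹ : GL ι F) : Matrix ι ι F) * (g * x * g⁻¹ : GL ι F) = (x : Matrix ι ι F) * x := by
      have hxx : ∃ s : F, (x : Matrix ι ι F) * x = s • 1 := by
        rcases hF.setting.square hx with h | h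
        exacts [⟨1, by rw [h, one_smul]⟩, ⟨-1, by rw [h, neg_one_smul]⟩]
      obtain ⟨s, hs⟩ := hxx
      rw [← Units.val_mul, show g * x * g⁻¹ * (g * x * g⁻¹) = g * (x * x) * g⁻¹ by group, Units.val_mul, Units.val_mul,
        Units.val_mul, hs, mul_smul_comm, mul_one, smul_mul_assoc, ← Units.val_mul, mul_inv_cancel, Units.val_one]
    rw [hc, smul_mul_assoc, mul_smul_comm, smul_smul] at hsq
    have h' : (c * c - 1) • ((x * x : GL ι F) : Matrix ι ι F) = 0 := by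
      rw [sub_smul, one_smul, Units.val_mul, hsq, sub_self]
    exact sub_eq_zero.1 ((smul_eq_zero.1 h').resolve_right (x * x).ne_zero)
  have hpow : ∀ k : ℕ, ((g ^ k : GL ι F) : Matrix ι ι F) * x = c ^ k • ((x : Matrix ι ι F) * (g ^ k : GL ι F)) := by
    intro k
    induction k with
    | zero => simp
    | succ k ih =>
      rw [pow_succ, Units.val_mul, mul_assoc, hgx, mul_smul_comm, ← mul_assoc, ih, smul_mul_assoc, smul_smul,
        mul_assoc, pow_succ, mul_comm]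
  have hr' := hpow r
  rw [hz, smul_mul_assoc, one_mul, mul_smul_comm, mul_one, smul_smul] at hr'
  have hz0 : z ≠ 0 := fun h => (g ^ r).ne_zero (by rw [hz, h, zero_smul])
  have h1 : (c ^ r * z - z) • (x : Matrix ι ι F) = 0 := by rw [sub_smul, ← hr', sub_self]
  have hcr : c ^ r = 1 := mul_right_cancel₀ hz0 (by
    rw [one_mul]; exact sub_eq_zero.1 ((smul_eq_zero.1 h1).resolve_right x.ne_zero))
  obtain ⟨k, rfl⟩ := hr
  rw [pow_succ, pow_mul, sq, hc2, one_pow, one_mul] at hcr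
  exact Units.ext (by rw [Units.val_mul, Units.val_mul, hgx, hcr, one_smul])

/-- an element of odd order modulo scalars fixing all classes is scalar -/
theorem Frame.scalar_of_fix (hF : Frame R A B J K) {g : GL ι F} (hg : g ∈ Cfsg.Geo.subgroupNormalizer R)
    {r : ℕ} (hr : Odd r) {z : F} (hz : ((g ^ r : GL ι F) : Matrix ι ι F) = z • 1)
    (hfix : ∀ x ∈ R, cls A B J K (g * x * g⁻¹) = cls A B J K x) : ∃ c : F, (g : Matrix ι ι F) = c • 1 :=
  hF.setting.scalar_of_central fun x hx => hF.comm_of_fix hg hr hz hx (hfix x hx)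

/-- the induced additive map on classes -/
theorem Frame.exists_action (hF : Frame R A B J K) {g : GL ι F} (hg : g ∈ Cfsg.Geo.subgroupNormalizer R) :
    ∃ π : Cls → Cls, (∀ e e', π (e + e') = π e + π e') ∧
      ∀ x ∈ R, π (cls A B J K x) = cls A B J K (g * x * g⁻¹) := by
  have key : ∀ x ∈ R, ∀ y ∈ R, cls A B J K x = cls A B J K y →
      cls A B J K (g * x * g⁻¹) = cls A B J K (g * y * g⁻¹) := by
    intro x hx y hy h
    obtain ⟨c, hc⟩ := hF.eq_smul_of_cls hx hy h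
    have hxy : g * x * g⁻¹ * (g * y * g⁻¹)⁻¹ = x * y⁻¹ := by
      have hs : ((x * y⁻¹ : GL ι F) : Matrix ι ι F) = c • 1 := by
        rw [Units.val_mul, hc, smul_mul_assoc, ← Units.val_mul, mul_inv_cancel, Units.val_one]
      have hcg : g * (x * y⁻¹) = x * y⁻¹ * g := Units.ext (by rw [Units.val_mul, Units.val_mul (x * y⁻¹), hs]; simp)
      calc g * x * g⁻¹ * (g * y * g⁻¹)⁻¹ = g * (x * y⁻¹) * g⁻¹ := by group
        _ = x * y⁻¹ := by rw [hcg, mul_inv_cancel_right]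
    have h0 : cls A B J K (x * y⁻¹) = 0 := (hF.cls_eq_zero (mul_mem hx (inv_mem hy))).2 ⟨c, by
      rw [Units.val_mul, hc, smul_mul_assoc, ← Units.val_mul, mul_inv_cancel, Units.val_one]⟩
    conv_lhs => rw [show g * x * g⁻¹ = x * y⁻¹ * (g * y * g⁻¹) by rw [← hxy]; group]
    rw [hF.cls_mul (mul_mem hx (inv_mem hy)) (conj_mem hg hy), h0, zero_add]
  refine ⟨fun e => cls A B J K (g * wd A B J K e * g⁻¹), fun e e' => ?_, fun x hx =>
    key _ (hF.wd_mem _) x hx (hF.cls_wd _)⟩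
  have h := key _ (hF.wd_mem (e + e')) _ (mul_mem (hF.wd_mem e) (hF.wd_mem e'))
    (by rw [hF.cls_mul (hF.wd_mem e) (hF.wd_mem e'), hF.cls_wd, hF.cls_wd, hF.cls_wd])
  show cls A B J K (g * wd A B J K (e + e') * g⁻¹) = _
  rw [h, ← hF.cls_mul (conj_mem hg (hF.wd_mem e)) (conj_mem hg (hF.wd_mem e'))]
  congr 1
  group

theorem Frame.action_iterate (hF : Frame R A B J K) {g : GL ι F} (hg : g ∈ Cfsg.Geo.subgroupNormalizer R)
    {π : Cls → Cls} (hπ : ∀ x ∈ R, π (cls A B J K x) = cls A B J K (g * x * g⁻¹)) (k : ℕ) :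
    ∀ x ∈ R, π^[k] (cls A B J K x) = cls A B J K (g ^ k * x * (g ^ k)⁻¹) := by
  induction k with
  | zero => intro x _; simp
  | succ k ih =>
    intro x hx
    rw [Function.iterate_succ_apply', ih x hx, hπ _ (pow_conj_mem hg hx k)]
    congr 1
    group

end CfsgLib.Perm.Elusive.STFour
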