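import Mathlib

/-!
# Characteristic polynomials of elements of order two, three and five in dimension four
-/

set_option autoImplicit false
set_option linter.all false

namespace CfsgLib.Perm.Elusive.STFour

open scoped Matrix Classical
open Polynomial

variable {ι : Type} [Fintype ι] [DecidableEq ι] {F : Type*} [Field F]

/-- an eigenvalue in the algebraic closure is a root of every annihilating polynomial -/
theorem root_of_annihilated (M : Matrix ι ι (AlgebraicClosure F)) {g : (AlgebraicClosure F)[X]} (hg : aeval M g = 0)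
    {t : AlgebraicClosure F} (ht : t ∈ M.charpoly.roots) : g.eval t = 0 := by
  have h : (Matrix.scalar ι t - M).det = 0 := by
    rw [← Matrix.eval_charpoly]; exact (mem_roots'.1 ht).2
  obtain ⟨v, hv, hv0⟩ := Matrix.exists_mulVec_eq_zero_iff.2 h
  have hMv : M *ᵥ v = t • v := by
    rw [Matrix.sub_mulVec, sub_eq_zero] at hv0
    rw [← hv0]
    ext i
    simp [Matrix.scalar, Matrix.mulVec_diagonal]
  have key : ∀ f : (AlgebraicClosure F)[X], aeval M f *ᵥ v = f.eval t • v := by
    intro f
    induction f using Polynomial.induction_on' with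
    | add a b ha hb => rw [map_add, Matrix.add_mulVec, ha, hb, eval_add, add_smul]
    | monomial n c =>
      have hp : ∀ k : ℕ, (M ^ k) *ᵥ v = t ^ k • v := fun k => by
        induction k with
        | zero => simp
        | succ k ih => rw [pow_succ, ← Matrix.mulVec_mulVec, hMv, Matrix.mulVec_smul, ih, smul_smul, pow_succ, mul_comm]
      rw [aeval_monomial, eval_monomial, ← Algebra.smul_def, Matrix.smul_mulVec, hp, smul_smul]
  have := key g
  rw [hg, Matrix.zero_mulVec] at this
  exact (smul_eq_zero.1 this.symm).resolve_right hv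

/-- the roots of the characteristic polynomial in the closure -/
noncomputable def spec (A : Matrix ι ι F) : Multiset (AlgebraicClosure F) :=
  (A.map (algebraMap F (AlgebraicClosure F))).charpoly.roots

theorem card_spec (A : Matrix ι ι F) : Multiset.card (spec A) = Fintype.card ι := by
  rw [spec, ← (IsAlgClosed.splits _).natDegree_eq_card_roots, Matrix.charpoly_natDegree_eq_dim]

theorem trace_spec (A : Matrix ι ι F) : algebraMap F (AlgebraicClosure F) A.trace = (spec A).sum := by
  rw [spec, ← Matrix.trace_eq_sum_roots_charpoly]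
  simp [Matrix.trace, map_sum]

theorem charpoly_eq_of_spec {A B : Matrix ι ι F} (h : spec A = spec B) : A.charpoly = B.charpoly := by
  refine Polynomial.map_injective (algebraMap F (AlgebraicClosure F)) (RingHom.injective _) ?_
  rw [← Matrix.charpoly_map, ← Matrix.charpoly_map,
    (IsAlgClosed.splits _).eq_prod_roots_of_monic (Matrix.charpoly_monic _),
    (IsAlgClosed.splits (B.map (algebraMap F (AlgebraicClosure F))).charpoly).eq_prod_roots_of_monic
      (Matrix.charpoly_monic _)]
  exact congrArg (fun s : Multiset (AlgebraicClosure F) => (s.map fun a => X - C a).prod) h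

theorem mem_spec_root {A : Matrix ι ι F} {g : F[X]} (hg : aeval A g = 0) {t : AlgebraicClosure F} (ht : t ∈ spec A) :
    aeval t g = 0 := by
  have h : aeval (A.map (algebraMap F (AlgebraicClosure F))) (g.map (algebraMap F (AlgebraicClosure F))) = 0 := by
    rw [aeval_map_algebraMap]
    have := congrArg (Algebra.ofId F (AlgebraicClosure F)).mapMatrix hg
    rw [map_zero, ← aeval_algHom_apply] at this
    exact this
  have h2 := root_of_annihilated _ h ht
  rwa [eval_map, ← aeval_def] at h2

theorem det_scalar_sub_eq_zero {A : Matrix ι ι F} {c : F} :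
    (Matrix.scalar ι c - A).det = 0 ↔ algebraMap F (AlgebraicClosure F) c ∈ spec A := by
  rw [spec, mem_roots (Matrix.charpoly_monic _).ne_zero, IsRoot, Matrix.charpoly_map, eval_map,
    ← Matrix.eval_charpoly]
  rw [eval₂_at_apply]
  exact (map_eq_zero _).symm

/-- involutions with one trace have one characteristic polynomial -/
theorem charpoly_invol (hι : Fintype.card ι = 4) (h2 : (2 : F) ≠ 0) {A B : Matrix ι ι F} (hA : A * A = 1)
    (hB : B * B = 1) (hA1 : A ≠ 1) (hA2 : A ≠ -1) (hB1 : B ≠ 1) (hB2 : B ≠ -1) (ht : A.trace = B.trace) :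
    A.charpoly = B.charpoly := by
  obtain ⟨K, hK⟩ : ∃ K, K = AlgebraicClosure F := ⟨_, rfl⟩
  have h2' : (2 : AlgebraicClosure F) ≠ 0 := fun h => h2 ((algebraMap F (AlgebraicClosure F)).injective (by rw [map_ofNat, map_zero, h]))
  have key : ∀ C : Matrix ι ι F, C * C = 1 → C ≠ 1 → C ≠ -1 → ∃ a b : ℕ, a + b = 4 ∧ 1 ≤ a ∧ 1 ≤ b ∧
      spec C = Multiset.replicate a 1 + Multiset.replicate b (-1) := by
    intro C hC hC1 hC2
    have hroot : ∀ t ∈ spec C, t = 1 ∨ t = -1 := fun t ht => by
      have h := mem_spec_root (g := X * X - 1) (by simp [hC]) ht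
      simp at h
      exact mul_self_eq_one_iff.1 (sub_eq_zero.1 h)
    have hne : (1 : AlgebraicClosure F) ≠ -1 := fun h => h2' (by linear_combination h)
    refine ⟨(spec C).count 1, (spec C).count (-1), ?_, ?_, ?_, ?_⟩
    · rw [← hι, ← card_spec C]
      have : spec C = Multiset.replicate ((spec C).count 1) 1 + Multiset.replicate ((spec C).count (-1)) (-1) := by
        refine Multiset.ext.2 fun t => ?_
        rw [Multiset.count_add, Multiset.count_replicate, Multiset.count_replicate]
        by_cases h : t ∈ spec C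
        · rcases hroot t h with rfl | rfl <;> simp [hne, hne.symm]
        · rw [Multiset.count_eq_zero.2 h]
          split_ifs with h1 h2 h2 <;> subst_vars <;> simp_all
      conv_rhs => rw [this]
      simp
    · rw [Multiset.one_le_count_iff_mem]
      by_contra hn
      refine hC2 ?_
      have hu : IsUnit (Matrix.scalar ι (1 : F) - C) := by
        rw [Matrix.isUnit_iff_isUnit_det, isUnit_iff_ne_zero]
        exact fun h => hn (by simpa using det_scalar_sub_eq_zero.1 h)
      have : (Matrix.scalar ι (1 : F) - C) * (C + 1) = 0 := by rw [map_one, sub_mul, one_mul, mul_add, hC, mul_one]; abel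
      exact eq_neg_of_add_eq_zero_left (hu.mul_right_eq_zero.1 this)
    · rw [Multiset.one_le_count_iff_mem]
      by_contra hn
      refine hC1 ?_
      have hu : IsUnit (Matrix.scalar ι (-1 : F) - C) := by
        rw [Matrix.isUnit_iff_isUnit_det, isUnit_iff_ne_zero]
        exact fun h => hn (by simpa using det_scalar_sub_eq_zero.1 h)
      have : (Matrix.scalar ι (-1 : F) - C) * (C - 1) = 0 := by
        rw [map_neg, map_one, sub_mul, neg_mul, one_mul, mul_sub, hC, mul_one]; abel
      exact sub_eq_zero.1 (hu.mul_right_eq_zero.1 this)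
    · refine Multiset.ext.2 fun t => ?_
      rw [Multiset.count_add, Multiset.count_replicate, Multiset.count_replicate]
      by_cases h : t ∈ spec C
      · rcases hroot t h with rfl | rfl <;> simp [hne, hne.symm]
      · rw [Multiset.count_eq_zero.2 h]
        split_ifs with h1 h2 h2 <;> subst_vars <;> simp_all
  obtain ⟨a, b, hab, ha, hb, hsA⟩ := key A hA hA1 hA2
  obtain ⟨c, d, hcd, hc, hd, hsB⟩ := key B hB hB1 hB2
  refine charpoly_eq_of_spec ?_
  have h := congrArg (algebraMap F (AlgebraicClosure F)) ht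
  rw [trace_spec, trace_spec, hsA, hsB] at h
  simp only [Multiset.sum_add, Multiset.sum_replicate, nsmul_eq_mul, mul_one, mul_neg] at h
  have hac : a = c := by
    have e : ((a : AlgebraicClosure F) + (d : AlgebraicClosure F)) = (c : AlgebraicClosure F) + (b : AlgebraicClosure F) := by
      linear_combination h
    have h1 : (a : AlgebraicClosure F) * 2 = (c : AlgebraicClosure F) * 2 := by
      have e1 : (a : AlgebraicClosure F) + b = 4 := by exact_mod_cast congrArg (Nat.cast : ℕ → AlgebraicClosure F) hab
      have e2 : (c : AlgebraicClosure F) + d = 4 := by exact_mod_cast congrArg (Nat.cast : ℕ → AlgebraicClosure F) hcd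
      linear_combination e + e1 - e2
    have h3 := mul_right_cancel₀ h2' h1
    have hone : (2 : AlgebraicClosure F) ≠ 0 := h2'
    have : a ≤ 3 ∧ c ≤ 3 := ⟨by omega, by omega⟩
    by_contra hne
    rcases Nat.lt_or_gt_of_ne hne with hlt | hlt
    · have e3 : ((c - a : ℕ) : AlgebraicClosure F) = 0 := by rw [Nat.cast_sub hlt.le, h3, sub_self]
      rcases (show c - a = 1 ∨ c - a = 2 by omega) with h | h <;> rw [h] at e3
      · simp at e3
      · exact h2' (by exact_mod_cast e3)
    · have e3 : ((a - c : ℕ) : AlgebraicClosure F) = 0 := by rw [Nat.cast_sub hlt.le, h3, sub_self]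
      rcases (show a - c = 1 ∨ a - c = 2 by omega) with h | h <;> rw [h] at e3
      · simp at e3
      · exact h2' (by exact_mod_cast e3)
  rw [hsA, hsB, hac, show b = d by omega]

/-- elements of order three -/
theorem spec_three {A : Matrix ι ι F} (h3 : (3 : F) ≠ 0) (hA : A ^ 3 = 1) :
    ∃ w : AlgebraicClosure F, w * w + w + 1 = 0 ∧ ∃ a b c : ℕ, a + b + c = Fintype.card ι ∧
      spec A = Multiset.replicate a 1 + Multiset.replicate b w + Multiset.replicate c (w * w) ∧
      (a = 0 ↔ A * A + A + 1 = 0) ∧ (b = 0 → c = 0 → A = 1) := by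
  obtain ⟨w, hw⟩ := IsAlgClosed.exists_root (X ^ 2 + X + 1 : (AlgebraicClosure F)[X]) (by
    rw [show (X ^ 2 + X + 1 : (AlgebraicClosure F)[X]).degree = 2 by compute_degree!]; decide)
  replace hw : w * w + w + 1 = 0 := by simpa [sq] using hw
  have h3' : (3 : AlgebraicClosure F) ≠ 0 := fun h => h3 ((algebraMap F (AlgebraicClosure F)).injective (by rw [map_ofNat, map_zero, h]))
  have hw1 : w ≠ 1 := fun h => h3' (by rw [h] at hw; linear_combination hw)
  have hww : w * w ≠ 1 := fun h => by
    have : w = -2 := by linear_combination hw - h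
    exact h3' (by rw [this] at h; linear_combination h)
  have hw2 : w ≠ w * w := fun h => by
    have hw0 : w ≠ 0 := fun h0 => by rw [h0] at hw; simp at hw
    exact hw1 (mul_left_cancel₀ hw0 (by rw [mul_one]; exact h.symm))
  have hroot : ∀ t ∈ spec A, t = 1 ∨ t = w ∨ t = w * w := fun t ht => by
    have h := mem_spec_root (g := X ^ 3 - 1) (by simp [hA]) ht
    simp at h
    rcases mul_eq_zero.1 (show (t - 1) * ((t - w) * (t - w * w)) = 0 by
      linear_combination h + (-(t * t) + t * w - (w - 1)) * hw) with h' | h'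
    · exact Or.inl (sub_eq_zero.1 h')
    · rcases mul_eq_zero.1 h' with h' | h'
      · exact Or.inr (Or.inl (sub_eq_zero.1 h'))
      · exact Or.inr (Or.inr (sub_eq_zero.1 h'))
  have hrep : spec A = Multiset.replicate ((spec A).count 1) 1 + Multiset.replicate ((spec A).count w) w +
      Multiset.replicate ((spec A).count (w * w)) (w * w) := by
    refine Multiset.ext.2 fun t => ?_
    rw [Multiset.count_add, Multiset.count_add, Multiset.count_replicate, Multiset.count_replicate,
      Multiset.count_replicate]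
    by_cases h : t ∈ spec A
    · rcases hroot t h with rfl | rfl | rfl <;> simp [hw1, hw1.symm, hww, hww.symm, hw2, hw2.symm]
    · rw [Multiset.count_eq_zero.2 h]
      split_ifs <;> subst_vars <;> simp_all
  have hz : (Matrix.scalar ι (1 : F) - A) * (A * A + A + 1) = 0 := by
    rw [map_one, show (1 - A) * (A * A + A + 1) = 1 - A ^ 3 by noncomm_ring, hA, sub_self]
  refine ⟨w, hw, _, _, _, ?_, hrep, ⟨fun h => ?_, fun h => ?_⟩, fun hb hc => ?_⟩
  · rw [← card_spec A]; conv_rhs => rw [hrep]
    simp
  · have hu : IsUnit (Matrix.scalar ι (1 : F) - A) := by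
      rw [Matrix.isUnit_iff_isUnit_det, isUnit_iff_ne_zero]
      exact fun h' => Multiset.count_eq_zero.1 h (by simpa using det_scalar_sub_eq_zero.1 h')
    exact hu.mul_right_eq_zero.1 hz
  · refine Multiset.count_eq_zero.2 fun h1 => ?_
    have h' := mem_spec_root (g := X * X + X + 1) (by simp [h]) h1
    simp at h'
    exact h3' (by linear_combination h')
  · have hu : IsUnit (A * A + A + 1) := by
      have hinj : Function.Injective (algebraMap F (AlgebraicClosure F)).mapMatrix (α := Matrix ι ι F) :=
        fun M N h => Matrix.map_injective (RingHom.injective _) h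
      obtain ⟨M, hM⟩ : ∃ M, M = A.map (algebraMap F (AlgebraicClosure F)) := ⟨_, rfl⟩
      have hu1 : ∀ u : AlgebraicClosure F, (spec A).count u = 0 → IsUnit (Matrix.scalar ι u - M).det := fun u hu =>
        isUnit_iff_ne_zero.2 fun h => Multiset.count_eq_zero.1 hu (by
          rw [spec, mem_roots (Matrix.charpoly_monic _).ne_zero, IsRoot, Matrix.eval_charpoly, ← hM]; exact h)
      have hfac : (Matrix.scalar ι w - M) * (Matrix.scalar ι (w * w) - M) = M * M + M + 1 := by
        simp only [Matrix.scalar_apply, ← Matrix.smul_one_eq_diagonal]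
        simp only [sub_mul, mul_sub, smul_mul_assoc, one_mul, mul_smul_comm, mul_one, smul_smul]
        rw [smul_sub, smul_smul, show w * w * w = 1 by linear_combination (w - 1) * hw]
        have : (-(w + w * w)) • M = M := by rw [show -(w + w * w) = 1 by linear_combination -hw, one_smul]
        linear_combination (norm := module) this
      rw [Matrix.isUnit_iff_isUnit_det]
      have hd := congrArg Matrix.det hfac
      rw [Matrix.det_mul] at hd
      have e : M * M + M + 1 = (algebraMap F (AlgebraicClosure F)).mapMatrix (A * A + A + 1) := by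
        rw [map_add, map_add, map_mul, map_one, RingHom.mapMatrix_apply, ← hM]
      rw [e, ← RingHom.map_det] at hd
      refine isUnit_iff_ne_zero.2 fun h0 => ?_
      rw [h0, map_zero] at hd
      rcases mul_eq_zero.1 hd with h | h
      · exact (hu1 w hb).ne_zero h
      · exact (hu1 _ hc).ne_zero h
    exact (sub_eq_zero.1 (hu.mul_left_eq_zero.1 (show (1 - A) * (A * A + A + 1) = 0 by simpa using hz))).symm

theorem det_spec (A : Matrix ι ι F) : algebraMap F (AlgebraicClosure F) A.det = (spec A).prod := by
  rw [spec, ← Matrix.det_eq_prod_roots_charpoly]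
  exact RingHom.map_det _ _

theorem charpoly_three (hι : Fintype.card ι = 4) (h3 : (3 : F) ≠ 0)
    {A B : Matrix ι ι F} (hA : A ^ 3 = 1) (hB : B ^ 3 = 1)
    (hA1 : A ≠ 1) (hB1 : B ≠ 1) (hdA : A.det = 1) (hdB : B.det = 1)
    (hiA : ∀ t ∈ spec A, t⁻¹ ∈ spec A) (hiB : ∀ t ∈ spec B, t⁻¹ ∈ spec B)
    (hiff : A * A + A + 1 = 0 ↔ B * B + B + 1 = 0) : A.charpoly = B.charpoly := by
  have h3' : (3 : AlgebraicClosure F) ≠ 0 := fun h => h3 ((algebraMap F (AlgebraicClosure F)).injective (by rw [map_ofNat, map_zero, h]))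
  have key : ∀ C : Matrix ι ι F, C ^ 3 = 1 → C ≠ 1 → C.det = 1 → (∀ t ∈ spec C, t⁻¹ ∈ spec C) →
      ∀ u : AlgebraicClosure F, u * u + u + 1 = 0 →
      (C * C + C + 1 = 0 → spec C = Multiset.replicate 2 u + Multiset.replicate 2 (u * u)) ∧
      (¬ C * C + C + 1 = 0 → spec C = Multiset.replicate 2 1 + Multiset.replicate 1 u + Multiset.replicate 1 (u * u)) := by
    intro C hC hC1 hdC hiC u hu
    obtain ⟨w, hw, a, b, c, habc, hs, hiffC, hbc⟩ := spec_three h3 hC
    have hw1 : w ≠ 1 := fun h => h3' (by rw [h] at hw; linear_combination hw)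
    have hw3 : w * w * w = 1 := by linear_combination (w - 1) * hw
    have hw0 : w ≠ 0 := fun h => by simp [h] at hw3
    have hw2 : w ≠ w * w := fun h => hw1 (mul_left_cancel₀ hw0 (by rw [mul_one]; exact h.symm))
    have hww : w * w ≠ 1 := fun h => hw1 (by rw [h, one_mul] at hw3; exact hw3)
    have hmem : ∀ t, t ∈ spec C → (t = 1 ∧ a ≠ 0) ∨ (t = w ∧ b ≠ 0) ∨ (t = w * w ∧ c ≠ 0) := fun t ht => by
      rw [hs] at ht
      simp only [Multiset.mem_add, Multiset.mem_replicate] at ht
      tauto
    have hbc0 : b = 0 ↔ c = 0 := by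
      constructor
      · intro hb
        by_contra hc
        have h := hiC (w * w) (by rw [hs]; simp [Multiset.mem_replicate, hc])
        rw [inv_eq_of_mul_eq_one_right (show w * w * w = 1 from hw3)] at h
        rcases hmem w h with ⟨h, -⟩ | ⟨-, h⟩ | ⟨h, -⟩
        exacts [hw1 h, h hb, hw2 h]
      · intro hc
        by_contra hb
        have h := hiC w (by rw [hs]; simp [Multiset.mem_replicate, hb])
        rw [inv_eq_of_mul_eq_one_right (show w * (w * w) = 1 by rw [← mul_assoc]; exact hw3)] at h
        rcases hmem _ h with ⟨h, -⟩ | ⟨h, -⟩ | ⟨-, h⟩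
        exacts [hww h, hw2 h.symm, h hc]
    have hb0 : b ≠ 0 := fun h => hC1 (hbc h (hbc0.1 h))
    have hc0 : c ≠ 0 := fun h => hb0 (hbc0.2 h)
    have hdet : w ^ (b + 2 * c) = 1 := by
      have h := det_spec C
      rw [hdC, map_one, hs] at h
      simp only [Multiset.prod_add, Multiset.prod_replicate, one_pow, one_mul] at h
      rw [pow_add, pow_mul, pow_two]
      exact h.symm
    have hord : orderOf w = 3 := by
      haveI : Fact (Nat.Prime 3) := ⟨Nat.prime_three⟩
      exact orderOf_eq_prime (by rw [← hw3]; ring) hw1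
    have hbceq : b = c := by
      have h := orderOf_dvd_of_pow_eq_one hdet
      rw [hord] at h
      omega
    have hswap : spec C = Multiset.replicate a 1 + Multiset.replicate b u + Multiset.replicate b (u * u) := by
      rcases mul_eq_zero.1 (show (u - w) * (u - w * w) = 0 by linear_combination hu + (w - 1 - u) * hw) with h | h
      · rw [sub_eq_zero.1 h, hs, hbceq]
      · rw [sub_eq_zero.1 h, show w * w * (w * w) = w by rw [← mul_assoc, hw3, one_mul], hs, hbceq]; abel
    refine ⟨fun h => ?_, fun h => ?_⟩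
    · have ha : a = 0 := hiffC.2 h
      rw [hswap, ha, show b = 2 by omega]; simp
    · have ha : a ≠ 0 := fun h' => h (hiffC.1 h')
      rw [hswap, show a = 2 by omega, show b = 1 by omega]
  obtain ⟨w, hw⟩ := IsAlgClosed.exists_root (X ^ 2 + X + 1 : (AlgebraicClosure F)[X]) (by
    rw [show (X ^ 2 + X + 1 : (AlgebraicClosure F)[X]).degree = 2 by compute_degree!]; decide)
  replace hw : w * w + w + 1 = 0 := by simpa [sq] using hw
  refine charpoly_eq_of_spec ?_
  by_cases h : A * A + A + 1 = 0
  · rw [(key A hA hA1 hdA hiA w hw).1 h, (key B hB hB1 hdB hiB w hw).1 (hiff.1 h)]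
  · rw [(key A hA hA1 hdA hiA w hw).2 h, (key B hB hB1 hdB hiB w hw).2 (fun h' => h (hiff.2 h'))]

/-- over the prime field the spectrum is closed under powers by `p` -/
theorem spec_pow [Fintype F] {p : ℕ} [Fact p.Prime] [CharP F p] (hF : Fintype.card F = p) (A : Matrix ι ι F)
    {t : AlgebraicClosure F} (ht : t ∈ spec A) : t ^ p ∈ spec A := by
  haveI : CharP (AlgebraicClosure F) p := charP_of_injective_algebraMap (RingHom.injective (algebraMap F _)) p
  rw [spec, mem_roots (Matrix.charpoly_monic _).ne_zero, IsRoot, Matrix.charpoly_map, eval_map] at ht ⊢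
  have hfr : (frobenius (AlgebraicClosure F) p).comp (algebraMap F (AlgebraicClosure F)) = algebraMap F (AlgebraicClosure F) := by
    ext c
    rw [RingHom.comp_apply, frobenius_def, ← map_pow, ← hF, FiniteField.pow_card]
  have h := congrArg (frobenius (AlgebraicClosure F) p) ht
  rw [hom_eval₂, hfr, map_zero, frobenius_def] at h
  exact h

/-- isometries of a hermitian form -/
theorem spec_unitary {p : ℕ} [Fact p.Prime] [CharP F p] (τ : F →+* F) (hτ : ∀ c, τ c = c ^ p) {A : Matrix ι ι F}
    (hA : (A.map τ)ᵀ * A = 1) {t : AlgebraicClosure F} (ht : t ∈ spec A) : (t ^ p)⁻¹ ∈ spec A := by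
  haveI : CharP (AlgebraicClosure F) p := charP_of_injective_algebraMap (RingHom.injective (algebraMap F _)) p
  have ht' : t ^ p ∈ spec ((A.map τ)ᵀ) := by
    rw [spec, mem_roots (Matrix.charpoly_monic _).ne_zero, IsRoot, Matrix.charpoly_map, eval_map] at ht ⊢
    rw [Matrix.charpoly_transpose, Matrix.charpoly_map, eval₂_map,
      show (algebraMap F (AlgebraicClosure F)).comp τ =
        (frobenius (AlgebraicClosure F) p).comp (algebraMap F (AlgebraicClosure F)) from
        RingHom.ext fun c => by simp [hτ, frobenius_def]]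
    have h := congrArg (frobenius (AlgebraicClosure F) p) ht
    rw [hom_eval₂, map_zero, frobenius_def] at h
    exact h
  obtain ⟨M, hM⟩ : ∃ M, M = A.map (algebraMap F (AlgebraicClosure F)) := ⟨_, rfl⟩
  obtain ⟨N, hN⟩ : ∃ N, N = ((A.map τ)ᵀ).map (algebraMap F (AlgebraicClosure F)) := ⟨_, rfl⟩
  have hNM : N * M = 1 := by
    rw [hN, hM, ← Matrix.map_mul, hA, Matrix.map_one _ (map_zero _) (map_one _)]
  rw [spec, mem_roots (Matrix.charpoly_monic _).ne_zero, IsRoot, Matrix.eval_charpoly, ← hN] at ht'
  rw [spec, mem_roots (Matrix.charpoly_monic _).ne_zero, IsRoot, Matrix.eval_charpoly, ← hM]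
  have hs0 : t ^ p ≠ 0 := fun h => by
    rw [h, map_zero, zero_sub, Matrix.det_neg] at ht'
    have hd := congrArg Matrix.det hNM
    rw [Matrix.det_mul, Matrix.det_one] at hd
    rcases mul_eq_zero.1 ht' with h' | h'
    · exact pow_ne_zero _ (neg_ne_zero.2 one_ne_zero) h'
    · rw [h', zero_mul] at hd; exact zero_ne_one hd
  have key : (Matrix.scalar ι (t ^ p) - N) * M = Matrix.scalar ι (-(t ^ p)) * (Matrix.scalar ι (t ^ p)⁻¹ - M) := by
    rw [sub_mul, hNM, mul_sub, ← map_mul, map_neg, neg_mul (t ^ p), mul_inv_cancel₀ hs0, map_neg, map_one]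
    simp only [Matrix.scalar_apply, ← Matrix.smul_one_eq_diagonal, smul_mul_assoc, one_mul, neg_mul]
    abel
  have hd := congrArg Matrix.det key
  rw [Matrix.det_mul, Matrix.det_mul, ht', zero_mul] at hd
  refine (mul_eq_zero.1 hd.symm).resolve_left ?_
  simp [Matrix.scalar, hs0]

/-- elements of order five when the fifth cyclotomic polynomial is irreducible -/
theorem charpoly_five (hι : Fintype.card ι = 4) (h5 : (5 : F) ≠ 0) (hirr : Irreducible (cyclotomic 5 F)) {A : Matrix ι ι F}
    (hA : A ^ 5 = 1) (hA1 : A ≠ 1) : A.charpoly = cyclotomic 5 F := by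
  haveI : Fact (Nat.Prime 5) := ⟨by norm_num⟩
  have hmul : cyclotomic 5 F * (X - 1) = X ^ 5 - 1 := cyclotomic_prime_mul_X_sub_one F 5
  have hmd : minpoly F A ∣ cyclotomic 5 F * (X - 1) := by
    rw [hmul]; exact minpoly.dvd F A (by simp [hA])
  have hdvd : cyclotomic 5 F ∣ minpoly F A := by
    by_contra hn
    have hco : IsCoprime (minpoly F A) (cyclotomic 5 F) := ((hirr.coprime_iff_not_dvd).2 hn).symm
    have h1 := hco.dvd_of_dvd_mul_left hmd
    have h2 := aeval_eq_zero_of_dvd_aeval_eq_zero h1 (minpoly.aeval F A)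
    simp at h2
    exact hA1 (sub_eq_zero.1 h2)
  have hdeg : (cyclotomic 5 F).natDegree = 4 := by rw [natDegree_cyclotomic]; decide
  refine (eq_of_monic_of_dvd_of_natDegree_le (cyclotomic.monic 5 F) (Matrix.charpoly_monic A)
    (hdvd.trans (Matrix.minpoly_dvd_charpoly A)) (by rw [Matrix.charpoly_natDegree_eq_dim, hι, hdeg]))

/-- traces of non-scalar involutions -/
theorem invol_trace (hι : Fintype.card ι = 4) (h2 : (2 : F) ≠ 0) {A : Matrix ι ι F} (hA : A * A = 1)
    (hA1 : A ≠ 1) (hA2 : A ≠ -1) : A.trace = 2 ∨ A.trace = 0 ∨ A.trace = -2 := by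
  have h2' : (2 : AlgebraicClosure F) ≠ 0 := fun h => h2 ((algebraMap F (AlgebraicClosure F)).injective (by rw [map_ofNat, map_zero, h]))
  have hne : (1 : AlgebraicClosure F) ≠ -1 := fun h => h2' (by linear_combination h)
  have hroot : ∀ t ∈ spec A, t = 1 ∨ t = -1 := fun t ht => by
    have h := mem_spec_root (g := X * X - 1) (by simp [hA]) ht
    simp at h
    exact mul_self_eq_one_iff.1 (sub_eq_zero.1 h)
  have hrep : spec A = Multiset.replicate ((spec A).count 1) 1 + Multiset.replicate ((spec A).count (-1)) (-1) := by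
    refine Multiset.ext.2 fun t => ?_
    rw [Multiset.count_add, Multiset.count_replicate, Multiset.count_replicate]
    by_cases h : t ∈ spec A
    · rcases hroot t h with rfl | rfl <;> simp [hne, hne.symm]
    · rw [Multiset.count_eq_zero.2 h]
      split_ifs <;> subst_vars <;> simp_all
  have h4 : (spec A).count 1 + (spec A).count (-1) = 4 := by
    have h := card_spec A
    rw [hι] at h
    conv_rhs => rw [← h, hrep]
    simp
  have ha : 1 ≤ (spec A).count 1 := by
    rw [Multiset.one_le_count_iff_mem]
    by_contra hn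
    refine hA2 ?_
    have hu : IsUnit (Matrix.scalar ι (1 : F) - A) := by
      rw [Matrix.isUnit_iff_isUnit_det, isUnit_iff_ne_zero]
      exact fun h => hn (by simpa using det_scalar_sub_eq_zero.1 h)
    have : (Matrix.scalar ι (1 : F) - A) * (A + 1) = 0 := by rw [map_one, sub_mul, one_mul, mul_add, hA, mul_one]; abel
    exact eq_neg_of_add_eq_zero_left (hu.mul_right_eq_zero.1 this)
  have hb : 1 ≤ (spec A).count (-1) := by
    rw [Multiset.one_le_count_iff_mem]
    by_contra hn
    refine hA1 ?_
    have hu : IsUnit (Matrix.scalar ι (-1 : F) - A) := by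
      rw [Matrix.isUnit_iff_isUnit_det, isUnit_iff_ne_zero]
      exact fun h => hn (by simpa using det_scalar_sub_eq_zero.1 h)
    have : (Matrix.scalar ι (-1 : F) - A) * (A - 1) = 0 := by
      rw [map_neg, map_one, sub_mul, neg_mul, one_mul, mul_sub, hA, mul_one]; abel
    exact sub_eq_zero.1 (hu.mul_right_eq_zero.1 this)
  have hinj := (algebraMap F (AlgebraicClosure F)).injective
  have ht := trace_spec A
  rw [hrep] at ht
  simp only [Multiset.sum_add, Multiset.sum_replicate, nsmul_eq_mul, mul_one, mul_neg] at ht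
  rcases (show (spec A).count 1 = 3 ∨ (spec A).count 1 = 2 ∨ (spec A).count 1 = 1 by omega) with h | h | h
  · refine Or.inl (hinj ?_)
    rw [ht, h, show (spec A).count (-1) = 1 by omega, map_ofNat]; norm_num
  · refine Or.inr (Or.inl (hinj ?_))
    rw [ht, h, show (spec A).count (-1) = 2 by omega, map_zero]; norm_num
  · refine Or.inr (Or.inr (hinj ?_))
    rw [ht, h, show (spec A).count (-1) = 3 by omega, map_neg, map_ofNat]; norm_num

/-- trace zero involutions have determinant one -/
theorem invol_det (hι : Fintype.card ι = 4) (h2 : (2 : F) ≠ 0) {A : Matrix ι ι F} (hA : A * A = 1)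
    (ht : A.trace = 0) : A.det = 1 := by
  have h2' : (2 : AlgebraicClosure F) ≠ 0 := fun h => h2 ((algebraMap F (AlgebraicClosure F)).injective (by rw [map_ofNat, map_zero, h]))
  have hne : (1 : AlgebraicClosure F) ≠ -1 := fun h => h2' (by linear_combination h)
  have hroot : ∀ t ∈ spec A, t = 1 ∨ t = -1 := fun t ht => by
    have h := mem_spec_root (g := X * X - 1) (by simp [hA]) ht
    simp at h
    exact mul_self_eq_one_iff.1 (sub_eq_zero.1 h)
  have hrep : spec A = Multiset.replicate ((spec A).count 1) 1 + Multiset.replicate ((spec A).count (-1)) (-1) := by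
    refine Multiset.ext.2 fun t => ?_
    rw [Multiset.count_add, Multiset.count_replicate, Multiset.count_replicate]
    by_cases h : t ∈ spec A
    · rcases hroot t h with rfl | rfl <;> simp [hne, hne.symm]
    · rw [Multiset.count_eq_zero.2 h]
      split_ifs <;> subst_vars <;> simp_all
  have h4 : (spec A).count 1 + (spec A).count (-1) = 4 := by
    have h := card_spec A
    rw [hι] at h
    conv_rhs => rw [← h, hrep]
    simp
  have hsum := trace_spec A
  rw [ht, map_zero, hrep] at hsum
  simp only [Multiset.sum_add, Multiset.sum_replicate, nsmul_eq_mul, mul_one, mul_neg] at hsum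
  have hb : (spec A).count (-1) = 2 := by
    have hne4 : (4 : AlgebraicClosure F) ≠ 0 := by rw [show (4 : AlgebraicClosure F) = 2 * 2 by norm_num]; exact mul_ne_zero h2' h2'
    rcases (show (spec A).count 1 = 4 ∨ (spec A).count 1 = 3 ∨ (spec A).count 1 = 2 ∨ (spec A).count 1 = 1 ∨
      (spec A).count 1 = 0 by omega) with h | h | h | h | h
    · rw [h, show (spec A).count (-1) = 0 by omega] at hsum
      exact absurd (by simpa using hsum.symm) hne4
    · rw [h, show (spec A).count (-1) = 1 by omega] at hsum
      exact absurd (show (2 : AlgebraicClosure F) = 0 by push_cast at hsum; linear_combination -hsum) h2'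
    · omega
    · rw [h, show (spec A).count (-1) = 3 by omega] at hsum
      exact absurd (show (2 : AlgebraicClosure F) = 0 by push_cast at hsum; linear_combination hsum) h2'
    · rw [h, show (spec A).count (-1) = 4 by omega] at hsum
      exact absurd (show (4 : AlgebraicClosure F) = 0 by push_cast at hsum; linear_combination hsum) hne4
  refine (algebraMap F (AlgebraicClosure F)).injective ?_
  rw [det_spec, hrep, hb, map_one]
  simp [Multiset.prod_replicate]

/-- elements of order five of a group of isometries moving the two quadratic factors -/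
theorem charpoly_five_twisted (hι : Fintype.card ι = 4) (τ : F →+* F) (ad : Matrix ι ι F → Matrix ι ι F)
    (hone : ad 1 = 1) (hmul : ∀ X Y, ad (X * Y) = ad Y * ad X) (hadd : ∀ X Y, ad (X + Y) = ad X + ad Y)
    (hsmul : ∀ (c : F) X, ad (c • X) = τ c • ad X) {s t : F} (hst : s + t = -1) (hstm : s * t = -1) (hne : s ≠ t)
    (hτ : τ s = t) (hs : Irreducible (X ^ 2 - C s * X + 1 : F[X])) (ht : Irreducible (X ^ 2 - C t * X + 1 : F[X]))
    {A : Matrix ι ι F} (hA : A ^ 5 = 1) (hA1 : A ≠ 1) (hiso : ad A * A = 1) :
    A.charpoly = (X ^ 2 - C s * X + 1) * (X ^ 2 - C t * X + 1) := by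
  have hf : ∀ u : F, (X ^ 2 - C u * X + 1 : F[X]).natDegree = 2 := fun u => by compute_degree!
  have hm : ∀ u : F, (X ^ 2 - C u * X + 1 : F[X]).Monic := fun u => by monicity!
  have e1 : C s + C t = (-1 : F[X]) := by rw [← C_add, hst, map_neg, map_one]
  have e2 : C s * C t = (-1 : F[X]) := by rw [← C_mul, hstm, map_neg, map_one]
  have hall : minpoly F A ∣ (X - 1) * ((X ^ 2 - C s * X + 1) * (X ^ 2 - C t * X + 1)) := by
    rw [show (X - 1) * ((X ^ 2 - C s * X + 1) * (X ^ 2 - C t * X + 1)) = (X ^ 5 - 1 : F[X]) by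
      linear_combination (-(X : F[X]) ^ 4 + X ^ 3 - X ^ 2 + X) * e1 + (X ^ 3 - X ^ 2) * e2]
    exact minpoly.dvd F A (by simp [hA])
  have hu : IsUnit A := IsUnit.of_pow_eq_one hA (by norm_num)
  have hnot : ∀ u v : F, τ u = v → u ≠ v → (A - 1) * (A * A - u • A + 1) ≠ 0 := by
    intro u v huv hne' h
    have h0 : ad 0 = 0 := by
      have := hadd 0 0; rw [add_zero] at this; exact left_eq_add.1 this
    have hneg : ∀ X, ad (-X) = -ad X := fun X =>
      eq_neg_of_add_eq_zero_left (by rw [← hadd, neg_add_cancel, h0])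
    obtain ⟨B, hB⟩ : ∃ B, B = ad A := ⟨_, rfl⟩
    rw [← hB] at hiso
    have hAB : A * B = 1 := mul_eq_one_comm.1 hiso
    have h1 := congrArg ad h
    rw [hmul, sub_eq_add_neg A 1, sub_eq_add_neg (A * A), hadd, hadd, hadd, hneg, hneg, hmul, hsmul, huv, hone, h0,
      ← hB] at h1
    have h2 : (B * B + -(v • B) + 1) * (B + -1) * (A * A * A) = 0 := by rw [h1, zero_mul]
    have h3 : (A - 1) * (A * A - v • A + 1) = 0 := by
      have e : ∀ Z : Matrix ι ι F, B * (A * Z) = Z := fun Z => by rw [← mul_assoc, hiso, one_mul]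
      simp only [add_mul, mul_add, neg_mul, mul_neg, smul_mul_assoc, mul_assoc, one_mul, mul_one, e, hiso] at h2
      simp only [sub_mul, mul_sub, mul_add, one_mul, mul_one, mul_smul_comm]
      linear_combination (norm := module) -h2
    have h4 : (v - u) • ((A - 1) * A) = 0 := by
      have := congrArg₂ (· - ·) h h3
      simp only [sub_self] at this
      rw [← this, ← mul_sub, ← mul_smul_comm]
      congr 1
      module
    have h5 := (smul_eq_zero.1 h4).resolve_left (sub_ne_zero.2 (Ne.symm hne'))
    exact hA1 (sub_eq_zero.1 (hu.mul_left_eq_zero.1 h5))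
  have hτt : τ t = s := by
    have h := congrArg τ hst
    rw [map_add, hτ, map_neg, map_one] at h
    linear_combination h - hst
  have hd1 : (X ^ 2 - C s * X + 1 : F[X]) ∣ minpoly F A := by
    by_contra hn
    have hco : IsCoprime (minpoly F A) (X ^ 2 - C s * X + 1 : F[X]) := ((hs.coprime_iff_not_dvd).2 hn).symm
    have h1 : minpoly F A ∣ (X - 1) * (X ^ 2 - C t * X + 1) := hco.dvd_of_dvd_mul_left
      (by rw [show (X ^ 2 - C s * X + 1) * ((X - 1) * (X ^ 2 - C t * X + 1)) =
        (X - 1) * ((X ^ 2 - C s * X + 1) * (X ^ 2 - C t * X + 1)) by ring]; exact hall)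
    have h2 := aeval_eq_zero_of_dvd_aeval_eq_zero h1 (minpoly.aeval F A)
    simp [sq, ← Algebra.smul_def] at h2
    exact hnot t s hτt hne.symm h2
  have hd2 : (X ^ 2 - C t * X + 1 : F[X]) ∣ minpoly F A := by
    by_contra hn
    have hco : IsCoprime (minpoly F A) (X ^ 2 - C t * X + 1 : F[X]) := ((ht.coprime_iff_not_dvd).2 hn).symm
    have h1 : minpoly F A ∣ (X - 1) * (X ^ 2 - C s * X + 1) := hco.dvd_of_dvd_mul_left
      (by rw [show (X ^ 2 - C t * X + 1) * ((X - 1) * (X ^ 2 - C s * X + 1)) =
        (X - 1) * ((X ^ 2 - C s * X + 1) * (X ^ 2 - C t * X + 1)) by ring]; exact hall)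
    have h2 := aeval_eq_zero_of_dvd_aeval_eq_zero h1 (minpoly.aeval F A)
    simp [sq, ← Algebra.smul_def] at h2
    exact hnot s t hτ hne h2
  have hcop : IsCoprime (X ^ 2 - C s * X + 1 : F[X]) (X ^ 2 - C t * X + 1) := by
    refine (hs.coprime_iff_not_dvd).2 fun h => hne ?_
    have h' := eq_of_monic_of_dvd_of_natDegree_le (hm s) (hm t) h (by rw [hf, hf])
    have := congrArg (fun g : F[X] => g.coeff 1) h'
    simpa [coeff_one] using this.symm
  exact (eq_of_monic_of_dvd_of_natDegree_le ((hm s).mul (hm t)) (Matrix.charpoly_monic A)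
    ((hcop.mul_dvd hd1 hd2).trans (Matrix.minpoly_dvd_charpoly A))
    (by rw [Matrix.charpoly_natDegree_eq_dim, hι, natDegree_mul (hm s).ne_zero (hm t).ne_zero, hf, hf]))

end CfsgLib.Perm.Elusive.STFour
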