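import Mathlib
import Cfsg.Prelude.Def_GeometricClasses
import Cfsg.Agent.Lib.Perm.Elusive.STFour.Action

/-!
# Elements of prime order of the normaliser
-/

set_option autoImplicit false
set_option linter.all false

namespace CfsgLib.Perm.Elusive.STFour

open scoped Matrix

/-- the commutator form on classes -/
def om (e f : Cls) : Fin 2 := e.1 * f.2.1 + e.2.1 * f.1 + e.2.2.1 * f.2.2.2 + e.2.2.2 * f.2.2.1

/-- the squaring form on classes -/
def qf (e : Cls) : Fin 2 := e.1 * e.2.1 + e.2.2.1 + e.2.2.2 + e.2.2.1 * e.2.2.2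

theorem qf_add : ∀ e f : Cls, qf (e + f) = qf e + qf f + om e f := by unfold qf om Cls; decide

set_option synthInstance.maxSize 1024 in
set_option synthInstance.maxHeartbeats 100000 in
theorem qf_pair : ∀ e f : Cls, qf e = 0 → qf f = 0 → om e f = 0 → e ≠ 0 → f ≠ 0 → e = f := by
  unfold qf om Cls; decide

variable {ι : Type} [Fintype ι] [DecidableEq ι] {F : Type*} [Field F]
variable {R : Subgroup (GL ι F)} {A B J K : GL ι F}

theorem Frame.bit_eq_om (hF : Frame R A B J K) {x y : GL ι F} (hx : x ∈ R) (hy : y ∈ R) :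
    bit x y = om (cls A B J K x) (cls A B J K y) := by
  rw [hF.bit_congr hx (hF.wd_mem _) hy (hF.cls_wd (cls A B J K x)).symm, hF.bit_wd hy, hF.bit_comm hF.hA hy,
    hF.bit_comm hF.hB hy, hF.bit_comm hF.hJ hy, hF.bit_comm hF.hK hy]
  simp [om, cls]

theorem Frame.qf_of_square (hF : Frame R A B J K)
    (hsc : ∀ g ∈ R, ∀ c : F, (g : Matrix ι ι F) = c • 1 → c * c = 1) {x : GL ι F} (hx : x ∈ R)
    (hxx : (x : Matrix ι ι F) * x = 1) : qf (cls A B J K x) = 0 := by
  haveI := hF.nonempty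
  obtain ⟨c, hc⟩ := hF.eq_smul_of_cls hx (hF.wd_mem _) (hF.cls_wd (cls A B J K x)).symm
  obtain ⟨w, hw⟩ : ∃ w, w = wd A B J K (cls A B J K x) := ⟨_, rfl⟩
  have hc2 : c * c = 1 := hsc (x * w⁻¹) (mul_mem hx (inv_mem (hw ▸ hF.wd_mem _))) c (by
    rw [Units.val_mul, hc, ← hw, smul_mul_assoc, ← Units.val_mul, mul_inv_cancel, Units.val_one])
  rw [hc, smul_mul_assoc, mul_smul_comm, smul_smul, hc2, one_smul] at hxx
  clear hw hc
  generalize cls A B J K x = e at hxx
  have h := hF.rels
  have key : ((wd A B J K e : GL ι F) : Matrix ι ι F) * (wd A B J K e : GL ι F) = Rels.sgn (F := F) (qf e) • 1 := by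
    obtain ⟨a, b, c, d⟩ := e
    fin_cases a <;> fin_cases b <;> fin_cases c <;> fin_cases d <;>
      simp [wd, qf, Rels.sgn, mul_assoc, h.AA, h.BB, h.JJ, h.KK, h.BA, h.JA, h.JB, h.KA, h.KB, h.KJ, h.AA', h.BB',
        h.JJ', h.KK', h.BA', h.JA', h.JB', h.KA', h.KB', h.KJ']
  rw [hxx] at key
  refine sgn_inj hF.setting.two ?_
  have h1 := congrFun (congrFun key (Classical.arbitrary ι)) (Classical.arbitrary ι)
  simpa [Rels.sgn] using h1.symm

theorem Frame.exists_om (hF : Frame R A B J K) {e : Cls} (he : e ≠ 0) : ∃ f, om e f = 1 := by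
  revert e; unfold om Cls; decide

/-- the permutation of classes of an element of prime order -/
theorem Frame.exists_perm (hF : Frame R A B J K) {g : GL ι F} (hg : g ∈ Cfsg.Geo.subgroupNormalizer R)
    {r : ℕ} {z : F} (hz : ((g ^ r : GL ι F) : Matrix ι ι F) = z • 1) :
    ∃ π : Cls →+ Cls, (∀ x ∈ R, π (cls A B J K x) = cls A B J K (g * x * g⁻¹)) ∧
      (∀ e, π^[r] e = e) ∧ ∀ e f, om (π e) (π f) = om e f := by
  obtain ⟨π, hadd, hπ⟩ := hF.exists_action hg
  refine ⟨AddMonoidHom.mk' π hadd, hπ, fun e => ?_, fun e f => ?_⟩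
  · show π^[r] e = e
    conv_lhs => rw [← hF.cls_wd e]
    rw [hF.action_iterate hg hπ r _ (hF.wd_mem e)]
    conv_rhs => rw [← hF.cls_wd e]
    congr 1
    have : g ^ r * wd A B J K e = wd A B J K e * g ^ r :=
      Units.ext (by rw [Units.val_mul, Units.val_mul, hz]; simp)
    rw [this, mul_inv_cancel_right]
  · show om (π e) (π f) = om e f
    rw [← hF.cls_wd e, ← hF.cls_wd f, hπ _ (hF.wd_mem e), hπ _ (hF.wd_mem f),
      ← hF.bit_eq_om (conj_mem hg (hF.wd_mem e)) (conj_mem hg (hF.wd_mem f)),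
      ← hF.bit_eq_om (hF.wd_mem e) (hF.wd_mem f)]
    refine hF.bit_eq (conj_mem hg (hF.wd_mem e)) (conj_mem hg (hF.wd_mem f)) ?_
    have h := hF.bit_spec (hF.wd_mem e) (hF.wd_mem f)
    rw [← Units.val_mul, ← Units.val_mul] at h ⊢
    rw [show g * wd A B J K e * g⁻¹ * (g * wd A B J K f * g⁻¹) = g * (wd A B J K e * wd A B J K f) * g⁻¹ by group,
      show g * wd A B J K f * g⁻¹ * (g * wd A B J K e * g⁻¹) = g * (wd A B J K f * wd A B J K e) * g⁻¹ by group]
    generalize wd A B J K e * wd A B J K f = P at h ⊢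
    generalize wd A B J K f * wd A B J K e = Q at h ⊢
    rw [Units.val_mul, Units.val_mul, Units.val_mul, Units.val_mul, h, mul_smul_comm, smul_mul_assoc]

theorem fixed_sum {r : ℕ} (π : Cls →+ Cls) (hr : Odd r) (hper : ∀ e, π^[r] e = e)
    (hom : ∀ e f, om (π e) (π f) = om e f) {q : Cls} (hq : π q = q) {p : Cls} (hp : om q p = 1) :
    ∃ P, π P = P ∧ om q P = 1 := by
  have hlin : ∀ a b c : Cls, om a (b + c) = om a b + om a c := by unfold om Cls; decide
  have hcst : ∀ k, om q (π^[k] p) = 1 := by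
    intro k
    induction k with
    | zero => simpa using hp
    | succ k ih =>
      rw [Function.iterate_succ_apply']
      calc om q (π (π^[k] p)) = om (π q) (π (π^[k] p)) := by rw [hq]
        _ = 1 := by rw [hom, ih]
  refine ⟨∑ k ∈ Finset.range r, π^[k] p, ?_, ?_⟩
  · rw [map_sum]
    have h1 := Finset.sum_range_succ' (fun k => π^[k] p) r
    have h2 := Finset.sum_range_succ (fun k => π^[k] p) r
    rw [h2, hper] at h1
    simp only [Function.iterate_zero_apply] at h1
    rw [add_right_cancel h1]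
    exact Finset.sum_congr rfl fun k _ => (Function.iterate_succ_apply' π k p).symm
  · let f : Cls →+ Fin 2 := AddMonoidHom.mk' (om q) (hlin q)
    show f _ = 1
    rw [map_sum, Finset.sum_congr rfl (fun k _ => show f (π^[k] p) = 1 from hcst k)]
    obtain ⟨m, rfl⟩ := hr
    simp only [Finset.sum_const, Finset.card_range, add_smul, one_smul, mul_smul]
    have : ∀ x : Fin 2, (2 : ℕ) • x = 0 := by decide
    rw [this, zero_add]

/-- possible numbers of fixed classes -/
theorem fixed_count {r : ℕ} [Fact r.Prime] (π : Cls →+ Cls) (hr : Odd r) (hper : ∀ e, π^[r] e = e)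
    (hom : ∀ e f, om (π e) (π f) = om e f) :
    (∀ e, π e = e) ∨ (r = 3 ∨ r = 5) ∧ (r = 5 → ∀ e, π e = e → e = 0) := by
  classical
  have hr' : r.Prime := Fact.out
  let σ : Function.End Cls := ⇑π
  have hiter : ∀ n : ℕ, (σ ^ n : Function.End Cls) = (⇑π)^[n] := fun n => by
    induction n with
    | zero => rfl
    | succ n ih => rw [pow_succ, ih, Function.iterate_succ]; rfl
  have hσ : σ ^ (r ^ 1) = 1 := by
    rw [pow_one, hiter]
    funext e
    exact hper e
  let Fx : AddSubgroup Cls := AddMonoidHom.eqLocus π (AddMonoidHom.id Cls)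
  have hcount : Nat.card Fx ≡ 16 [MOD r] := by
    have h := Equiv.Perm.card_fixedPoints_modEq (p := r) (n := 1) hσ
    have e1 : Fintype.card Cls = 16 := by unfold Cls; simp
    rw [e1] at h
    rw [Nat.card_eq_fintype_card]
    refine (show _ ≡ _ [MOD r] from congrArg (· % r) ?_).trans h.symm
    exact (Fintype.card_congr (Equiv.subtypeEquivRight fun e => by
      simp [Fx, σ, Function.IsFixedPt, AddMonoidHom.eqLocus, Function.mem_fixedPoints]; rfl))
  have hdvd : Nat.card Fx ∣ 2 ^ 4 := by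
    have h := Fx.card_addSubgroup_dvd_card
    have e1 : Nat.card Cls = 2 ^ 4 := by unfold Cls; simp
    rwa [e1] at h
  obtain ⟨k, hk, hck⟩ := (Nat.dvd_prime_pow Nat.prime_two).1 hdvd
  by_cases h16 : Nat.card Fx = 16
  · left
    intro e
    have : Fx = ⊤ := AddSubgroup.eq_top_of_card_eq Fx (by rw [h16]; unfold Cls; simp)
    have he : e ∈ Fx := this ▸ AddSubgroup.mem_top e
    exact he
  right
  have hthree : Nat.card Fx ≠ 1 → 3 ≤ Nat.card Fx := by
    intro h1
    obtain ⟨⟨q, hq⟩, hq0⟩ : ∃ q : Fx, q ≠ 0 := by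
      by_contra hcon
      push Not at hcon
      refine h1 (Nat.card_eq_one_iff_unique.2 ⟨⟨fun a b => ?_⟩, ⟨0⟩⟩)
      rw [hcon a, hcon b]
    have hq0' : q ≠ 0 := fun h => hq0 (Subtype.ext h)
    obtain ⟨p, hp⟩ : ∃ p, om q p = 1 := by revert hq0'; clear hq hq0; revert q; unfold om Cls; decide
    obtain ⟨P, hP, hqP⟩ := fixed_sum π hr hper hom (hq : π q = q) hp
    have hne : P ≠ q ∧ P ≠ 0 := by
      have : ∀ a : Cls, om a a = 0 ∧ om a 0 = 0 := by unfold om Cls; decide
      refine ⟨fun h => ?_, fun h => ?_⟩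
      · rw [h, (this q).1] at hqP; exact absurd hqP (by decide)
      · rw [h, (this q).2] at hqP; exact absurd hqP (by decide)
    have hinj3 : Function.Injective (fun i : Fin 3 => (![(0 : Fx), ⟨q, hq⟩, ⟨P, hP⟩] i)) := by
      intro i j hij
      fin_cases i <;> fin_cases j <;> simp [Subtype.ext_iff] at hij ⊢ <;>
        first
          | exact hq0' hij | exact hq0' hij.symm | exact hne.1 hij | exact hne.1 hij.symm
          | exact hne.2 hij | exact hne.2 hij.symm
    simpa using Nat.card_le_card_of_injective _ hinj3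
  have hdiv : r ∣ 16 - Nat.card Fx := (Nat.modEq_iff_dvd' (by
    rw [hck]; calc 2 ^ k ≤ 2 ^ 4 := Nat.pow_le_pow_right (by norm_num) hk
      _ = 16 := by norm_num)).1 hcount
  have hr2 : r ≠ 2 := fun h => by rw [h] at hr; exact absurd hr (by decide)
  have hcase : (Nat.card Fx = 1 ∧ (r = 3 ∨ r = 5)) ∨ r = 3 := by
    rw [hck] at hdiv hthree h16 ⊢
    have hd : ∀ m, r ∣ 2 ^ m → False := fun m h =>
      hr2 ((Nat.prime_dvd_prime_iff_eq hr' Nat.prime_two).1 (hr'.dvd_of_dvd_pow h))
    interval_cases k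
    · rcases (Nat.Prime.dvd_mul hr').1 (show r ∣ 3 * 5 from hdiv) with h | h
      · exact Or.inr ((Nat.prime_dvd_prime_iff_eq hr' Nat.prime_three).1 h)
      · exact Or.inl ⟨rfl, Or.inr ((Nat.prime_dvd_prime_iff_eq hr' (by norm_num)).1 h)⟩
    · exact absurd (hthree (by norm_num)) (by norm_num)
    · rcases (Nat.Prime.dvd_mul hr').1 (show r ∣ 2 ^ 2 * 3 from hdiv) with h | h
      · exact (hd _ h).elim
      · exact Or.inr ((Nat.prime_dvd_prime_iff_eq hr' Nat.prime_three).1 h)
    · exact (hd 3 hdiv).elim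
    · exact absurd rfl h16
  refine ⟨?_, fun h5 e he => ?_⟩
  · rcases hcase with ⟨-, h⟩ | h
    exacts [h, Or.inl h]
  · rcases hcase with ⟨h1, -⟩ | h
    · haveI := (Nat.card_eq_one_iff_unique.1 h1).1
      exact congrArg Subtype.val (Subsingleton.elim (⟨e, he⟩ : Fx) 0)
    · omega

/-- no element of prime order at least seven -/
theorem Frame.scalar_of_large (hF : Frame R A B J K) {g : GL ι F} (hg : g ∈ Cfsg.Geo.subgroupNormalizer R)
    {r : ℕ} [Fact r.Prime] (hr : 7 ≤ r) {z : F} (hz : ((g ^ r : GL ι F) : Matrix ι ι F) = z • 1) :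
    ∃ c : F, (g : Matrix ι ι F) = c • 1 := by
  have hodd : Odd r := (Fact.out : r.Prime).odd_of_ne_two (by omega)
  obtain ⟨π, hπ, hper, hom⟩ := hF.exists_perm hg hz
  rcases fixed_count π hodd hper hom with h | ⟨h, -⟩
  · exact hF.scalar_of_fix hg hodd hz fun x hx => by rw [← hπ x hx, h]
  · omega

/-- in the minus case every element of order three commutes with an anticommuting pair -/
theorem Frame.exists_comm_pair_three (hF : Frame R A B J K)
    (hsc : ∀ g ∈ R, ∀ c : F, (g : Matrix ι ι F) = c • 1 → c * c = 1) {g : GL ι F}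
    (hg : g ∈ Cfsg.Geo.subgroupNormalizer R) {z : F} (hz : ((g ^ 3 : GL ι F) : Matrix ι ι F) = z • 1) :
    ∃ a b : GL ι F, g * a = a * g ∧ g * b = b * g ∧
      (a : Matrix ι ι F) * b = -((b : Matrix ι ι F) * a) := by
  haveI := hF.nonempty
  haveI : Fact (Nat.Prime 3) := ⟨Nat.prime_three⟩
  have hodd : Odd 3 := by decide
  obtain ⟨π, hπ, hper, hom⟩ := hF.exists_perm hg hz
  obtain ⟨q, hq0, hq⟩ : ∃ q, q ≠ 0 ∧ π q = q := by
    by_contra hcon
    push Not at hcon
    have hfix : ∀ e, π e = e → e = 0 := fun e he => by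
      by_contra h; exact hcon e h he
    obtain ⟨x, hx⟩ : ∃ x, x = cls A B J K A := ⟨_, rfl⟩
    obtain ⟨y, hy⟩ : ∃ y, y = π x := ⟨_, rfl⟩
    have hqx : qf x = 0 := hx ▸ hF.qf_of_square hsc hF.hA hF.rels.AA
    have hconj : ∀ w : GL ι F, w ∈ R → (w : Matrix ι ι F) * w = 1 →
        ((g * w * g⁻¹ : GL ι F) : Matrix ι ι F) * (g * w * g⁻¹ : GL ι F) = 1 := fun w _ hww => by
      rw [← Units.val_mul, show g * w * g⁻¹ * (g * w * g⁻¹) = g * (w * w) * g⁻¹ by group,
        show w * w = 1 from Units.ext hww]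
      simp
    have hqy : qf y = 0 := by
      rw [hy, hx, hπ A hF.hA]
      exact hF.qf_of_square hsc (conj_mem hg hF.hA) (hconj A hF.hA hF.rels.AA)
    have hqz : qf (π y) = 0 := by
      rw [hy, hx, hπ A hF.hA, hπ _ (conj_mem hg hF.hA)]
      exact hF.qf_of_square hsc (conj_mem hg (conj_mem hg hF.hA))
        (hconj _ (conj_mem hg hF.hA) (hconj A hF.hA hF.rels.AA))
    have hx0 : x ≠ 0 := by
      intro h
      obtain ⟨c, hc⟩ := (hF.cls_eq_zero hF.hA).1 (hx ▸ h)
      exact not_scalar_of_anticomm hF.setting.two (x := A) (y := B) (by rw [hF.rels.BA, neg_neg]) c hc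
    have hsum : π y = x + y := by
      have hs : x + y + π y = 0 := hfix _ (by
        have e3 : π (π y) = x := by rw [hy]; exact hper x
        rw [map_add, map_add, e3, ← hy]; abel)
      have : ∀ a b c : Cls, a + b + c = 0 → c = a + b := by unfold Cls; decide
      exact this _ _ _ hs
    rw [hsum, qf_add, hqx, hqy, zero_add, zero_add] at hqz
    have hy0 : y ≠ 0 := fun h => hx0 (by
      have := hper x
      rw [Function.iterate_succ_apply, ← hy, h] at this
      simpa using this.symm)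
    exact hx0 (hfix x (by rw [← hy]; exact (qf_pair x y hqx hqy hqz hx0 hy0).symm))
  obtain ⟨p, hp⟩ := hF.exists_om hq0
  obtain ⟨P, hP, hqP⟩ := fixed_sum π hodd hper hom hq hp
  have hcomm : ∀ e, π e = e → ∃ w : GL ι F, w ∈ R ∧ cls A B J K w = e ∧ g * w = w * g := fun e he =>
    ⟨_, hF.wd_mem e, hF.cls_wd e, hF.comm_of_fix hg hodd hz (hF.wd_mem e) (by
      rw [← hπ _ (hF.wd_mem e), hF.cls_wd, he])⟩
  obtain ⟨a, ha, hac, hag⟩ := hcomm q hq
  obtain ⟨b, hb, hbc, hbg⟩ := hcomm P hP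
  have hab := hF.bit_spec ha hb
  rw [hF.bit_eq_om ha hb, hac, hbc, hqP] at hab
  refine ⟨a, b, hag, hbg, ?_⟩
  simpa [Rels.sgn] using hab

/-- in the minus case every element of order three has no simple eigenvalue -/
theorem Frame.no_simple_eigen_three (hF : Frame R A B J K)
    (hsc : ∀ g ∈ R, ∀ c : F, (g : Matrix ι ι F) = c • 1 → c * c = 1) {g : GL ι F}
    (hg : g ∈ Cfsg.Geo.subgroupNormalizer R) {z : F} (hz : ((g ^ 3 : GL ι F) : Matrix ι ι F) = z • 1)
    {l : F} {v : ι → F} (hv : v ≠ 0) (hgv : (g : Matrix ι ι F) *ᵥ v = l • v)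
    (honly : ∀ w, (g : Matrix ι ι F) *ᵥ w = l • w → ∃ a : F, w = a • v) : False := by
  obtain ⟨a, b, hag, hbg, hab⟩ := hF.exists_comm_pair_three hsc hg hz
  have heig : ∀ w : GL ι F, g * w = w * g → ∃ s : F, (w : Matrix ι ι F) *ᵥ v = s • v := fun w hw => by
    refine honly _ ?_
    rw [Matrix.mulVec_mulVec, ← Units.val_mul, hw, Units.val_mul, ← Matrix.mulVec_mulVec, hgv, Matrix.mulVec_smul]
  obtain ⟨s, hs⟩ := heig a hag
  obtain ⟨t, ht⟩ := heig b hbg
  have h1 := congrArg (· *ᵥ v) hab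
  simp only [Matrix.neg_mulVec, ← Matrix.mulVec_mulVec, hs, ht, Matrix.mulVec_smul, smul_smul] at h1
  have h2 : (2 * (s * t)) • v = 0 := by linear_combination (norm := module) h1
  have h3 := (smul_eq_zero.1 h2).resolve_right hv
  have hne : ∀ (w : GL ι F) (u : F), (w : Matrix ι ι F) *ᵥ v = u • v → u ≠ 0 := fun w u hw hu => hv (by
    have h := congrArg (((w⁻¹ : GL ι F) : Matrix ι ι F) *ᵥ ·) hw
    rw [hu, zero_smul] at h
    simpa [Matrix.mulVec_mulVec] using h)
  exact mul_ne_zero hF.setting.two (mul_ne_zero (hne a s hs) (hne b t ht)) h3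

/-- an element of order five modulo scalars has a centraliser of dimension at most four -/
theorem Frame.commutant_five (hF : Frame R A B J K) {g : GL ι F} (hg : g ∈ Cfsg.Geo.subgroupNormalizer R)
    {z : F} (hz : ((g ^ 5 : GL ι F) : Matrix ι ι F) = z • 1) (hns : ∀ c : F, (g : Matrix ι ι F) ≠ c • 1)
    (X : Fin 5 → Matrix ι ι F) (hX : ∀ i, (g : Matrix ι ι F) * X i = X i * g) : ¬ LinearIndependent F X := by
  classical
  haveI := hF.nonempty
  haveI : Fact (Nat.Prime 5) := ⟨by norm_num⟩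
  have hodd : Odd 5 := by decide
  obtain ⟨π, hπ, hper, hom⟩ := hF.exists_perm hg hz
  have hfix : ∀ e, π e = e → e = 0 := by
    rcases fixed_count π hodd hper hom with h | ⟨-, h⟩
    · obtain ⟨c, hc⟩ := hF.scalar_of_fix hg hodd hz fun x hx => by rw [← hπ x hx, h]
      exact absurd hc (hns c)
    · exact h rfl
  -- representatives of the orbits
  let O : Cls → Finset Cls := fun e => (Finset.range 5).image fun i => π^[i] e
  have hmem : ∀ e (i : ℕ), π^[i] e ∈ O e := fun e i => Finset.mem_image.2 ⟨i % 5, Finset.mem_range.2 (Nat.mod_lt _ (by norm_num)),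
    ((show Function.IsPeriodicPt π 5 e from hper e).iterate_mod_apply i)⟩
  have hcardO : ∀ e, e ≠ 0 → (O e).card = 5 := fun e he => by
    have hmp : Function.minimalPeriod π e = 5 := by
      rcases (Nat.dvd_prime (by norm_num : Nat.Prime 5)).1
        (show Function.IsPeriodicPt π 5 e from hper e).minimalPeriod_dvd with h | h
      · exact absurd (hfix e (Function.minimalPeriod_eq_one_iff_isFixedPt.1 h)) he
      · exact h
    rw [Finset.card_image_of_injOn, Finset.card_range]
    intro i hi j hj hij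
    exact Function.iterate_injOn_Iio_minimalPeriod (by rw [hmp]; simpa using hi) (by rw [hmp]; simpa using hj) hij
  have hdisj : ∀ e f, f ∉ O e → Disjoint (O e) (O f) := fun e f hf => by
    rw [Finset.disjoint_left]
    rintro x hxe hxf
    obtain ⟨i, -, rfl⟩ := Finset.mem_image.1 hxe
    obtain ⟨j, hj, hji⟩ := Finset.mem_image.1 hxf
    rw [Finset.mem_range] at hj
    apply hf
    have : π^[5 - j + i] e = f := by
      rw [Function.iterate_add_apply, ← hji, ← Function.iterate_add_apply, Nat.sub_add_cancel hj.le, hper]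
    exact this ▸ hmem e _
  obtain ⟨t₁, ht₁⟩ : ∃ t : Cls, t ≠ 0 := ⟨(1, 0, 0, 0), by unfold Cls; decide⟩
  have hpick : ∀ S : Finset Cls, S.card < 16 → ∃ t, t ∉ S := fun S hS => by
    by_contra hcon
    push Not at hcon
    rw [Finset.eq_univ_of_forall hcon, Finset.card_univ] at hS
    unfold Cls at hS
    simp at hS
  have hO0 : ∀ t, t ≠ 0 → (0 : Cls) ∉ O t := fun t ht h => by
    obtain ⟨i, hi, h0⟩ := Finset.mem_image.1 h
    rw [Finset.mem_range] at hi
    have h5 := congrArg (π^[5 - i]) h0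
    rw [← Function.iterate_add_apply, Nat.sub_add_cancel hi.le, hper, iterate_map_zero] at h5
    exact ht h5
  obtain ⟨t₂, ht₂⟩ := hpick (insert 0 (O t₁)) (lt_of_le_of_lt (Finset.card_insert_le _ _) (by rw [hcardO t₁ ht₁]; norm_num))
  simp only [Finset.mem_insert, not_or] at ht₂
  have h12 : (O t₁ ∪ O t₂).card = 10 := by
    rw [Finset.card_union_of_disjoint (hdisj _ _ ht₂.2), hcardO _ ht₁, hcardO _ ht₂.1]
  obtain ⟨t₃, ht₃⟩ := hpick (insert 0 (O t₁ ∪ O t₂)) (lt_of_le_of_lt (Finset.card_insert_le _ _) (by rw [h12]; norm_num))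
  simp only [Finset.mem_insert, Finset.mem_union, not_or] at ht₃
  have hall : insert (0 : Cls) (O t₁ ∪ O t₂ ∪ O t₃) = Finset.univ := by
    refine Finset.eq_univ_of_card _ ?_
    rw [Finset.card_insert_of_notMem, Finset.card_union_of_disjoint
      (Finset.disjoint_union_left.2 ⟨hdisj _ _ ht₃.2.1, hdisj _ _ ht₃.2.2⟩), h12, hcardO _ ht₃.1]
    · unfold Cls; simp
    · simp only [Finset.mem_union, not_or]
      exact ⟨⟨hO0 _ ht₁, hO0 _ ht₂.1⟩, hO0 _ ht₃.1⟩
  -- coordinates
  have hli := hF.rels.indep hF.setting.two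
  let b := basisOfLinearIndependentOfCardEqFinrank hli (by simp [Module.finrank_matrix, hF.card])
  have hbW : ∀ e, b e = ((wd A B J K e : GL ι F) : Matrix ι ι F) := fun e => by
    simp only [b, coe_basisOfLinearIndependentOfCardEqFinrank]
    obtain ⟨a, c, d, f⟩ := e
    fin_cases a <;> fin_cases c <;> fin_cases d <;> fin_cases f <;> simp [wd, Rels.word, mul_assoc]
  intro hXI
  let L : Matrix ι ι F →ₗ[F] (Fin 4 → F) := LinearMap.pi fun k => b.coord (![0, t₁, t₂, t₃] k)
  obtain ⟨a, ha, i₀, hi₀⟩ : ∃ a : Fin 5 → F, ∑ i, a i • L (X i) = 0 ∧ ∃ i, a i ≠ 0 := by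
    have : ¬ LinearIndependent F fun i => L (X i) := fun h => by
      have := h.fintype_card_le_finrank
      simp at this
    exact Fintype.not_linearIndependent_iff.1 this
  obtain ⟨Y, hY⟩ : ∃ Y, Y = ∑ i, a i • X i := ⟨_, rfl⟩
  have hLY : L Y = 0 := by rw [hY, map_sum]; simpa [map_smul] using ha
  have hgY : (g : Matrix ι ι F) * Y = Y * g := by
    rw [hY, Finset.mul_sum, Finset.sum_mul]
    exact Finset.sum_congr rfl fun i _ => by rw [mul_smul_comm, hX, smul_mul_assoc]
  choose c hc using fun e => hF.eq_smul_of_cls (conj_mem hg (hF.wd_mem e)) (hF.wd_mem (π e))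
    (by rw [hF.cls_wd, ← hπ _ (hF.wd_mem e), hF.cls_wd])
  have hrec : ∀ e, b.repr Y (π e) = b.repr Y e * c e := by
    intro e
    have hinjπ : Function.Injective π := fun x y h => by
      have h' := congrArg (π^[4]) h
      rwa [← Function.iterate_succ_apply, ← Function.iterate_succ_apply, hper, hper] at h'
    have h1 : Y = ∑ f, (b.repr Y f * c f) • b (π f) := by
      calc Y = (g : Matrix ι ι F) * Y * (g⁻¹ : GL ι F) := by rw [hgY, mul_assoc, ← Units.val_mul, mul_inv_cancel, Units.val_one, mul_one]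
        _ = (g : Matrix ι ι F) * (∑ f, b.repr Y f • b f) * (g⁻¹ : GL ι F) := by rw [b.sum_repr]
        _ = _ := by
          rw [Finset.mul_sum, Finset.sum_mul]
          refine Finset.sum_congr rfl fun f _ => ?_
          rw [mul_smul_comm, smul_mul_assoc, hbW, hbW, ← smul_smul, ← Units.val_mul, ← Units.val_mul, hc]
    conv_lhs => rw [h1]
    simp [map_sum, Finsupp.single_apply, hinjπ.eq_iff]
  have hzero : ∀ k : ℕ, ∀ t, b.repr Y t = 0 → b.repr Y (π^[k] t) = 0 := by
    intro k t ht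
    induction k with
    | zero => simpa using ht
    | succ k ih => rw [Function.iterate_succ_apply', hrec, ih, zero_mul]
  have hY0 : Y = 0 := by
    refine b.ext_elem fun e => ?_
    have he : e ∈ insert (0 : Cls) (O t₁ ∪ O t₂ ∪ O t₃) := hall ▸ Finset.mem_univ e
    have h0 := congrFun hLY 0
    have h1 := congrFun hLY 1
    have h2 := congrFun hLY 2
    have h3 := congrFun hLY 3
    simp [L] at h0 h1 h2 h3
    simp only [Finset.mem_insert, Finset.mem_union, O, Finset.mem_image] at he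
    simp only [map_zero, Finsupp.coe_zero, Pi.zero_apply]
    rcases he with rfl | (⟨k, -, rfl⟩ | ⟨k, -, rfl⟩) | ⟨k, -, rfl⟩
    exacts [h0, hzero k _ h1, hzero k _ h2, hzero k _ h3]
  exact hi₀ (Fintype.linearIndependent_iff.1 hXI a (hY ▸ hY0) i₀)

end CfsgLib.Perm.Elusive.STFour
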