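import Mathlib
import Cfsg.Prelude.Def_GeometricClasses
import Cfsg.Agent.Lib.Perm.Elusive.STFour.Action

/-!
# The normaliser contains no rank one element of odd order
-/

set_option autoImplicit false
set_option linter.all false

namespace CfsgLib.Perm.Elusive.STFour

open scoped Matrix
open Matrix

variable {ι : Type} [Fintype ι] [DecidableEq ι] {F : Type*} [Field F]
variable {R : Subgroup (GL ι F)} {A B J K : GL ι F}

theorem exists_pair_vector {φ ψ : ι → F} (hφ : φ ≠ 0) (hind : ∀ t : F, ψ ≠ t • φ) :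
    ∃ v : ι → F, φ ⬝ᵥ v = 0 ∧ ψ ⬝ᵥ v = 1 := by
  obtain ⟨i, hi⟩ : ∃ i, φ i ≠ 0 := Function.ne_iff.1 hφ
  obtain ⟨j, hj⟩ : ∃ j, ψ j * φ i ≠ ψ i * φ j := by
    by_contra hcon
    push Not at hcon
    refine hind (ψ i / φ i) (funext fun j => ?_)
    rw [Pi.smul_apply, smul_eq_mul]
    field_simp
    linear_combination hcon j
  have hd : φ i * ψ j - φ j * ψ i ≠ 0 := fun h => hj (by linear_combination h)
  refine ⟨(φ i * ψ j - φ j * ψ i)⁻¹ • (Pi.single j (φ i) - Pi.single i (φ j)), ?_, ?_⟩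
  · simp [dotProduct_smul, dotProduct_sub, dotProduct_single]; ring_nf; simp
  · simp [dotProduct_smul, dotProduct_sub, dotProduct_single]
    field_simp

theorem exists_common_zero (hι : 3 ≤ Fintype.card ι) (φ ψ : ι → F) :
    ∃ v : ι → F, v ≠ 0 ∧ φ ⬝ᵥ v = 0 ∧ ψ ⬝ᵥ v = 0 := by
  let L : (ι → F) →ₗ[F] (Fin 2 → F) := Matrix.toLin' (Matrix.of ![φ, ψ])
  have h : LinearMap.ker L ≠ ⊥ := LinearMap.ker_ne_bot_of_finrank_lt (by simp; omega)
  obtain ⟨v, hv, hv0⟩ := Submodule.exists_mem_ne_zero_of_ne_bot h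
  rw [LinearMap.mem_ker] at hv
  have h0 := congrFun hv 0
  have h1 := congrFun hv 1
  simp [L, Matrix.mulVec] at h0 h1
  exact ⟨v, hv0, h0, h1⟩

theorem Frame.trace_eq_zero (hF : Frame R A B J K) {x : GL ι F} (hx : x ∈ R)
    (hns : ∀ c : F, (x : Matrix ι ι F) ≠ c • 1) : (x : Matrix ι ι F).trace = 0 := by
  haveI := hF.nonempty
  obtain ⟨y, hy, hxy⟩ := hF.setting.exists_anticomm hx hns
  have h1 : (y : Matrix ι ι F) * x * ((y⁻¹ : GL ι F) : Matrix ι ι F) = -(x : Matrix ι ι F) := by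
    rw [← neg_eq_iff_eq_neg.2 hxy, neg_mul, mul_assoc, ← Units.val_mul, mul_inv_cancel, Units.val_one, mul_one]
  have h2 := congrArg Matrix.trace h1
  rw [Matrix.trace_mul_cycle, ← Units.val_mul, inv_mul_cancel, Units.val_one, one_mul, Matrix.trace_neg] at h2
  exact (mul_eq_zero.1 (show 2 * (x : Matrix ι ι F).trace = 0 by linear_combination h2)).resolve_left hF.setting.two

/-- no element `1 + u ⊗ φ` of odd order modulo scalars normalises -/
theorem Frame.scalar_of_rankOne (hF : Frame R A B J K) {g : GL ι F} (hg : g ∈ Cfsg.Geo.subgroupNormalizer R)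
    {u φ : ι → F} (hgu : (g : Matrix ι ι F) = 1 + vecMulVec u φ) {r : ℕ} (hr : Odd r) {z : F}
    (hz : ((g ^ r : GL ι F) : Matrix ι ι F) = z • 1) : ∃ c : F, (g : Matrix ι ι F) = c • 1 := by
  haveI := hF.nonempty
  have h2 := hF.setting.two
  have hcomm : ∀ Q ∈ R, g * (g * Q * g⁻¹ * Q⁻¹) = (g * Q * g⁻¹ * Q⁻¹) * g := by
    intro Q hQ
    obtain ⟨c, hc⟩ : ∃ c, c = g * Q * g⁻¹ * Q⁻¹ := ⟨_, rfl⟩
    rw [← hc]
    have hcR : c ∈ R := hc ▸ mul_mem (conj_mem hg hQ) (inv_mem hQ)
    by_cases hcs : ∃ s : F, (c : Matrix ι ι F) = s • 1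
    · obtain ⟨s, hs⟩ := hcs
      exact Units.ext (by rw [Units.val_mul, Units.val_mul, hs]; simp)
    push Not at hcs
    have htr := hF.trace_eq_zero hcR hcs
    -- the other factor
    obtain ⟨φ', hφ'⟩ : ∃ w : ι → F, w = φ ᵥ* ((g⁻¹ : GL ι F) : Matrix ι ι F) ᵥ* ((Q⁻¹ : GL ι F) : Matrix ι ι F) :=
      ⟨_, rfl⟩
    obtain ⟨w, hw⟩ : ∃ w : ι → F, w = -((g : Matrix ι ι F) *ᵥ ((Q : Matrix ι ι F) *ᵥ u)) := ⟨_, rfl⟩
    have hX : (c : Matrix ι ι F) = 1 + (vecMulVec u φ + vecMulVec w φ') := by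
      have hginv : ((g⁻¹ : GL ι F) : Matrix ι ι F) = 1 - vecMulVec u φ * ((g⁻¹ : GL ι F) : Matrix ι ι F) := by
        have : (g : Matrix ι ι F) * (g⁻¹ : GL ι F) = 1 := by rw [← Units.val_mul, mul_inv_cancel, Units.val_one]
        rw [hgu, add_mul, one_mul] at this
        exact eq_sub_of_add_eq this
      rw [hc, Units.val_mul, Units.val_mul, Units.val_mul, hginv, mul_sub, mul_one, sub_mul, mul_assoc (g : Matrix ι ι F) Q,
        mul_assoc (g : Matrix ι ι F), ← Units.val_mul Q, mul_inv_cancel, Units.val_one, mul_one]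
      rw [vecMulVec_mul, mul_vecMulVec, mul_vecMulVec, vecMulVec_mul, ← hφ', ← neg_neg (_ *ᵥ _), ← hw, hgu]
      rw [neg_vecMulVec, sub_neg_eq_add, add_assoc]
    obtain ⟨X, hXd⟩ : ∃ X, X = vecMulVec u φ + vecMulVec w φ' := ⟨_, rfl⟩
    rw [← hXd] at hX
    have hcc : (c : Matrix ι ι F) * c = 1 := by
      refine (hF.setting.square hcR).resolve_right fun h => ?_
      obtain ⟨v, hv0, hv1, hv2⟩ := exists_common_zero (by rw [hF.card]; norm_num) φ φ'
      have hXv : X *ᵥ v = 0 := by simp [hXd, add_mulVec, vecMulVec_mulVec, hv1, hv2]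
      have hcv : (c : Matrix ι ι F) *ᵥ v = v := by rw [hX, add_mulVec, one_mulVec, hXv, add_zero]
      have h' := congrArg (· *ᵥ v) h
      simp only [← mulVec_mulVec, hcv, neg_mulVec, one_mulVec] at h'
      exact hv0 ((smul_eq_zero.1 (show (2 : F) • v = 0 by linear_combination (norm := module) h')).resolve_left h2)
    have hcX : (c : Matrix ι ι F) * X = -X ∧ X * (c : Matrix ι ι F) = -X := by
      have e : X = (c : Matrix ι ι F) - 1 := by rw [hX, add_sub_cancel_left]
      rw [e, mul_sub, sub_mul, hcc]; simp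
    have htX : X.trace = -4 := by
      rw [hX, trace_add, trace_one, hF.card] at htr
      push_cast at htr
      linear_combination htr
    have hrank : ∀ a b : ι → F, X ≠ vecMulVec a b := by
      intro a b hab
      have hX2 : X * X = (-2 : F) • X := by
        have h := hcX.1
        rw [hX, add_mul, one_mul] at h
        linear_combination (norm := module) h
      rw [hab, vecMulVec_mul_vecMulVec, vecMulVec_smul] at hX2
      have hne : vecMulVec a b ≠ 0 := fun h => hcs 1 (by rw [hX, hab, h, add_zero, one_smul])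
      have h' : (b ⬝ᵥ a - (-2)) • vecMulVec a b = 0 := by rw [sub_smul, hX2, sub_self]
      have h'' := sub_eq_zero.1 ((smul_eq_zero.1 h').resolve_right hne)
      have htr' : b ⬝ᵥ a = -4 := by rw [← htX, hab, trace_vecMulVec, dotProduct_comm]
      exact h2 (by linear_combination htr' - h'')
    have hu0 : u ≠ 0 := fun h => hrank w φ' (by rw [hXd, h]; simp)
    have hφ0 : φ ≠ 0 := fun h => hrank w φ' (by rw [hXd, h]; simp)
    have hw0 : w ≠ 0 := fun h => hrank u φ (by rw [hXd, h]; simp)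
    have hφ'0 : φ' ≠ 0 := fun h => hrank u φ (by rw [hXd, h]; simp)
    have hcu : (c : Matrix ι ι F) *ᵥ u = -u := by
      obtain ⟨v, hv1, hv2⟩ := exists_pair_vector hφ'0 (ψ := φ) (fun t ht => hrank (t • u + w) φ' (by
        rw [hXd, ht, add_vecMulVec, vecMulVec_smul, smul_vecMulVec]))
      have hXv : X *ᵥ v = u := by simp [hXd, add_mulVec, vecMulVec_mulVec, hv1, hv2]
      have h := congrArg (· *ᵥ v) hcX.1
      simpa [← mulVec_mulVec, neg_mulVec, hXv] using h
    have hφc : φ ᵥ* (c : Matrix ι ι F) = -φ := by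
      obtain ⟨v, hv1, hv2⟩ := exists_pair_vector hw0 (ψ := u) (fun t ht => hrank w (t • φ + φ') (by
        rw [hXd, ht, vecMulVec_add, smul_vecMulVec, vecMulVec_smul]))
      have hXv : v ᵥ* X = φ := by
        simp [hXd, vecMul_add, vecMul_vecMulVec, dotProduct_comm v, hv1, hv2]
      have h := congrArg (v ᵥ* ·) hcX.2
      simpa [← vecMul_vecMul, vecMul_neg, hXv] using h
    refine Units.ext ?_
    rw [Units.val_mul, Units.val_mul, hgu, add_mul, mul_add, one_mul, mul_one, vecMulVec_mul, mul_vecMulVec, hcu, hφc]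
    simp [vecMulVec_neg, neg_vecMulVec]
  have hg2 : ∀ Q ∈ R, g ^ 2 * Q = Q * g ^ 2 := by
    intro Q hQ
    obtain ⟨c, hc⟩ : ∃ c, c = g * Q * g⁻¹ * Q⁻¹ := ⟨_, rfl⟩
    have hcR : c ∈ R := hc ▸ mul_mem (conj_mem hg hQ) (inv_mem hQ)
    have hcg := hcomm Q hQ
    rw [← hc] at hcg
    have hgQ : g * Q = c * Q * g := by rw [hc]; group
    rcases hF.setting.square hcR with h | h
    · calc g ^ 2 * Q = g * (g * Q) := by rw [pow_two, mul_assoc]
        _ = (g * c) * Q * g := by rw [hgQ]; group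
        _ = c * (g * Q) * g := by rw [hcg]; group
        _ = (c * c) * Q * g ^ 2 := by rw [hgQ, pow_two]; group
        _ = Q * g ^ 2 := by rw [show c * c = 1 from Units.ext h, one_mul]
    · exfalso
      obtain ⟨v, hv0, hv1, hv2⟩ := exists_common_zero (by rw [hF.card]; norm_num) φ
        (φ ᵥ* ((g⁻¹ : GL ι F) : Matrix ι ι F) ᵥ* ((Q⁻¹ : GL ι F) : Matrix ι ι F))
      have h1 : ((g⁻¹ : GL ι F) : Matrix ι ι F) *ᵥ (((Q⁻¹ : GL ι F) : Matrix ι ι F) *ᵥ v) =
          ((Q⁻¹ : GL ι F) : Matrix ι ι F) *ᵥ v := by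
        have : (g : Matrix ι ι F) * (g⁻¹ : GL ι F) = 1 := by rw [← Units.val_mul, mul_inv_cancel, Units.val_one]
        rw [hgu, add_mul, one_mul] at this
        have h' := congrArg (· *ᵥ (((Q⁻¹ : GL ι F) : Matrix ι ι F) *ᵥ v)) this
        simp only [add_mulVec, one_mulVec, vecMulVec_mul, vecMulVec_mulVec] at h'
        rw [dotProduct_mulVec] at h'
        rw [hv2] at h'
        simpa using h'
      have hcv : (c : Matrix ι ι F) *ᵥ v = v := by
        rw [hc, Units.val_mul, Units.val_mul, Units.val_mul, ← mulVec_mulVec, ← mulVec_mulVec, h1,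
          mulVec_mulVec, mul_assoc, ← Units.val_mul, mul_inv_cancel, Units.val_one, mul_one, hgu, add_mulVec,
          one_mulVec, vecMulVec_mulVec, hv1]
        simp
      have h' := congrArg (· *ᵥ v) h
      simp only [← mulVec_mulVec, hcv, neg_mulVec, one_mulVec] at h'
      exact hv0 ((smul_eq_zero.1 (show (2 : F) • v = 0 by linear_combination (norm := module) h')).resolve_left h2)
  obtain ⟨s, hs⟩ := hF.setting.scalar_of_central (g := g ^ 2) hg2
  exact scalar_of_coprime (Nat.coprime_two_left.2 hr) hs hz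

end CfsgLib.Perm.Elusive.STFour
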