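import Mathlib
import Cfsg.Prelude.Def_GeometricClasses
import Cfsg.Agent.Lib.Perm.Elusive.STFour.Orbits
import Cfsg.Agent.Lib.Perm.Elusive.STFour.RankOne

/-!
# Elements of order two, three and five in the normaliser
-/

set_option autoImplicit false
set_option linter.all false

namespace CfsgLib.Perm.Elusive.STFour

open scoped Matrix

variable {ι : Type} [Fintype ι] [DecidableEq ι] {F : Type*} [Field F]
variable {R : Subgroup (GL ι F)} {A B J K : GL ι F}

/-- an adjoint for which the symplectic type group consists of isometries -/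
structure AdPair (R : Subgroup (GL ι F)) (τ : F →+* F) (ad : Matrix ι ι F → Matrix ι ι F) : Prop where
  one : ad 1 = 1
  mul : ∀ X Y, ad (X * Y) = ad Y * ad X
  add : ∀ X Y, ad (X + Y) = ad X + ad Y
  smul : ∀ (c : F) X, ad (c • X) = τ c • ad X
  iso : ∀ x ∈ R, ad (x : Matrix ι ι F) * x = 1

theorem AdPair.ad_eq {τ : F →+* F} {ad : Matrix ι ι F → Matrix ι ι F} (ha : AdPair R τ ad) {x : GL ι F} (hx : x ∈ R) :
    ad (x : Matrix ι ι F) = ((x⁻¹ : GL ι F) : Matrix ι ι F) := by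
  calc ad (x : Matrix ι ι F) = ad (x : Matrix ι ι F) * ((x : Matrix ι ι F) * (x⁻¹ : GL ι F)) := by
        rw [← Units.val_mul, mul_inv_cancel, Units.val_one, mul_one]
    _ = _ := by rw [← mul_assoc, ha.iso x hx, one_mul]

theorem AdPair.ad_invol {τ : F →+* F} {ad : Matrix ι ι F → Matrix ι ι F} (ha : AdPair R τ ad) {x : GL ι F} (hx : x ∈ R)
    (h : (x : Matrix ι ι F) * x = 1) : ad (x : Matrix ι ι F) = x := by
  rw [ha.ad_eq hx, inv_eq_of_mul_eq_one_right (show x * x = 1 from Units.ext h)]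

theorem AdPair.ad_skew {τ : F →+* F} {ad : Matrix ι ι F → Matrix ι ι F} (ha : AdPair R τ ad) {x : GL ι F} (hx : x ∈ R)
    (h : (x : Matrix ι ι F) * x = -1) : ad (x : Matrix ι ι F) = -x := by
  rw [ha.ad_eq hx, inv_eq_of_mul_eq_one_right (show x * (-x) = 1 from Units.ext (by simp [h]))]
  simp

/-- `1 + P` for a square root `P` of minus one -/
theorem Frame.exists_transvection (hF : Frame R A B J K) {P : GL ι F} (hP : P ∈ R)
    (hPP : (P : Matrix ι ι F) * P = -1) (hns : ∀ c : F, (P : Matrix ι ι F) ≠ c • 1) :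
    ∃ g : GL ι F, (g : Matrix ι ι F) = 1 + P ∧ g ∈ Cfsg.Geo.subgroupNormalizer R ∧
      (g : Matrix ι ι F).det * (g : Matrix ι ι F).det = 16 ∧
      (∀ x ∈ R, cls A B J K (g * x * g⁻¹) = cls A B J K x + bit P x • cls A B J K P) ∧
      ∀ (τ : F →+* F) (ad : Matrix ι ι F → Matrix ι ι F), AdPair R τ ad →
        ad (g : Matrix ι ι F) * g = (2 : F) • 1 := by
  haveI := hF.nonempty
  have h2 := hF.setting.two
  have hprod : (1 + (P : Matrix ι ι F)) * (1 - (P : Matrix ι ι F)) = (2 : F) • 1 := by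
    rw [mul_sub, mul_one, add_mul, one_mul, hPP, two_smul]; abel
  obtain ⟨Q, hQ, hPQ⟩ := hF.setting.exists_anticomm hP hns
  have hdet : (1 + (P : Matrix ι ι F)).det * (1 + (P : Matrix ι ι F)).det = 16 := by
    have h1 : (1 + (P : Matrix ι ι F)) * Q = Q * (1 - (P : Matrix ι ι F)) := by
      rw [add_mul, one_mul, hPQ, mul_sub, mul_one]; abel
    have h3 := congrArg Matrix.det h1
    rw [Matrix.det_mul, Matrix.det_mul, mul_comm (Q : Matrix ι ι F).det] at h3
    have h4 := congrArg Matrix.det hprod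
    rw [Matrix.det_mul, Matrix.det_smul, Matrix.det_one, hF.card,
      ← mul_right_cancel₀ ((Matrix.isUnit_iff_isUnit_det _).1 Q.isUnit).ne_zero h3] at h4
    rw [h4]; ring
  obtain ⟨g, hg⟩ : ∃ g : GL ι F, (g : Matrix ι ι F) = 1 + P :=
    ⟨Matrix.GeneralLinearGroup.mkOfDetNeZero _ (fun h => by
      rw [h, mul_zero] at hdet
      exact pow_ne_zero 4 h2 (by rw [hdet]; norm_num)), rfl⟩
  have hconj : ∀ x ∈ R, g * x * g⁻¹ = P ^ (bit P x : ℕ) * x := by
    intro x hx
    rw [mul_inv_eq_iff_eq_mul]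
    refine Units.ext ?_
    have hb := hF.bit_spec hP hx
    rw [Units.val_mul, Units.val_mul, Units.val_mul, hg]
    generalize bit P x = s at hb
    fin_cases s
    · simp [Rels.sgn] at hb
      simp [add_mul, mul_add, hb]
    · simp [Rels.sgn] at hb
      simp only [Fin.mk_one, Fin.val_one, pow_one, add_mul, one_mul, mul_add, mul_one]
      have e : (P : Matrix ι ι F) * x * P = x := by
        rw [mul_assoc, show (x : Matrix ι ι F) * P = -((P : Matrix ι ι F) * x) by rw [hb, neg_neg], mul_neg, ← mul_assoc,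
          hPP, neg_one_mul, neg_neg]
      rw [e, add_comm]
  refine ⟨g, hg, hF.mem_normalizer ?_ ?_ ?_ ?_, by rw [hg]; exact hdet, fun x hx => ?_, fun τ ad ha => ?_⟩
  · rw [hconj A hF.hA]; exact mul_mem (pow_mem hP _) hF.hA
  · rw [hconj B hF.hB]; exact mul_mem (pow_mem hP _) hF.hB
  · rw [hconj J hF.hJ]; exact mul_mem (pow_mem hP _) hF.hJ
  · rw [hconj K hF.hK]; exact mul_mem (pow_mem hP _) hF.hK
  · rw [hconj x hx, hF.cls_mul (pow_mem hP _) hx, add_comm]
    congr 1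
    generalize bit P x = s
    fin_cases s
    · simp [(hF.cls_eq_zero (one_mem R)).2 ⟨1, by simp⟩]
    · simp
  · rw [hg, ha.add, ha.one, ha.ad_skew hP hPP, ← sub_eq_add_neg, sub_mul, one_mul, mul_add, mul_one, hPP, two_smul]
    abel

/-- the class map of `1 + P` -/
def tv (p e : Cls) : Cls := e + om p e • p

/-- an element of order five -/
theorem Frame.exists_five (hF : Frame R A B J K) :
    ∃ k : GL ι F, k ∈ Cfsg.Geo.subgroupNormalizer R ∧ (k : Matrix ι ι F).det = 1 ∧ k ^ 5 = 1 ∧ k ≠ 1 ∧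
      ∀ (τ : F →+* F) (ad : Matrix ι ι F → Matrix ι ι F), AdPair R τ ad → ad (k : Matrix ι ι F) * k = 1 := by
  haveI := hF.nonempty
  have h2 := hF.setting.two
  have h := hF.rels
  have hns : ∀ x ∈ R, cls A B J K x ≠ 0 → ∀ c : F, (x : Matrix ι ι F) ≠ c • 1 := fun x hx h0 c hc =>
    h0 ((hF.cls_eq_zero hx).2 ⟨c, hc⟩)
  have cJ : cls A B J K J = (0, 0, 1, 0) := by
    conv_lhs => arg 5; rw [show J = wd A B J K (0, 0, 1, 0) by simp [wd]]
    exact hF.cls_wd _
  have cK : cls A B J K K = (0, 0, 0, 1) := by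
    conv_lhs => arg 5; rw [show K = wd A B J K (0, 0, 0, 1) by simp [wd]]
    exact hF.cls_wd _
  have cA : cls A B J K A = (1, 0, 0, 0) := by
    conv_lhs => arg 5; rw [show A = wd A B J K (1, 0, 0, 0) by simp [wd]]
    exact hF.cls_wd _
  have cB : cls A B J K B = (0, 1, 0, 0) := by
    conv_lhs => arg 5; rw [show B = wd A B J K (0, 1, 0, 0) by simp [wd]]
    exact hF.cls_wd _
  have cJA : cls A B J K (J * A) = (1, 0, 1, 0) := by rw [hF.cls_mul hF.hJ hF.hA, cJ, cA]; rfl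
  have cAB : cls A B J K (A * B) = (1, 1, 0, 0) := by rw [hF.cls_mul hF.hA hF.hB, cA, cB]; rfl
  obtain ⟨g1, e1, n1, d1, f1, a1⟩ := hF.exists_transvection hF.hJ h.JJ (hns J hF.hJ (by rw [cJ]; decide))
  obtain ⟨g2, e2, n2, d2, f2, a2⟩ := hF.exists_transvection hF.hK h.KK (hns K hF.hK (by rw [cK]; decide))
  obtain ⟨g3, e3, n3, d3, f3, a3⟩ := hF.exists_transvection (mul_mem hF.hJ hF.hA)
    (by simp [mul_assoc, h.JA, h.JA', h.AA, h.JJ, h.AA']) (hns (J * A) (mul_mem hF.hJ hF.hA) (by rw [cJA]; decide))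
  obtain ⟨g4, e4, n4, d4, f4, a4⟩ := hF.exists_transvection (mul_mem hF.hA hF.hB)
    (by simp [mul_assoc, h.BA', h.BB, h.AA]) (hns (A * B) (mul_mem hF.hA hF.hB) (by rw [cAB]; decide))
  have hstep : ∀ (P g : GL ι F) (p : Cls), P ∈ R → cls A B J K P = p →
      (∀ x ∈ R, cls A B J K (g * x * g⁻¹) = cls A B J K x + bit P x • cls A B J K P) →
      ∀ x ∈ R, cls A B J K (g * x * g⁻¹) = tv p (cls A B J K x) := by
    intro P g p hP hp hf x hx
    rw [hf x hx, hF.bit_eq_om hP hx, hp, tv]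
  obtain ⟨q, hq⟩ : ∃ q : GL ι F, (q : Matrix ι ι F) = (4 : F)⁻¹ • 1 := by
    refine ⟨Matrix.GeneralLinearGroup.mkOfDetNeZero ((4 : F)⁻¹ • 1) ?_, rfl⟩
    rw [Matrix.det_smul, Matrix.det_one, mul_one]
    exact pow_ne_zero _ (inv_ne_zero (by rw [show (4 : F) = 2 * 2 by norm_num]; exact mul_ne_zero h2 h2))
  obtain ⟨G, hG⟩ : ∃ G : GL ι F, G = q * (g1 * g2 * g3 * g4) := ⟨_, rfl⟩
  have hGN : G ∈ Cfsg.Geo.subgroupNormalizer R :=
    hG ▸ mul_mem (scalar_mem_normalizer hq) (mul_mem (mul_mem (mul_mem n1 n2) n3) n4)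
  obtain ⟨T, hT⟩ : ∃ T : Cls → Cls, T = fun e => tv (0, 0, 1, 0) (tv (0, 0, 0, 1) (tv (1, 0, 1, 0) (tv (1, 1, 0, 0) e))) :=
    ⟨_, rfl⟩
  have hTG : ∀ x ∈ R, T (cls A B J K x) = cls A B J K (G * x * G⁻¹) := by
    intro x hx
    have e : G * x * G⁻¹ = q * (g1 * (g2 * (g3 * (g4 * x * g4⁻¹) * g3⁻¹) * g2⁻¹) * g1⁻¹) * q⁻¹ := by rw [hG]; group
    have hc : ∀ y : GL ι F, q * y * q⁻¹ = y := fun y => by
      rw [mul_inv_eq_iff_eq_mul]; exact Units.ext (by simp [hq])
    rw [e, hc, hstep J g1 _ hF.hJ cJ f1 _ (conj_mem n2 (conj_mem n3 (conj_mem n4 hx))),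
      hstep K g2 _ hF.hK cK f2 _ (conj_mem n3 (conj_mem n4 hx)),
      hstep _ g3 _ (mul_mem hF.hJ hF.hA) cJA f3 _ (conj_mem n4 hx),
      hstep _ g4 _ (mul_mem hF.hA hF.hB) cAB f4 _ hx, hT]
  have hiter := hF.action_iterate hGN hTG
  have h5 : ∀ e, T^[5] e = e := by rw [hT]; unfold tv om Cls; decide
  have hmove : T^[2] (0, 0, 1, 0) ≠ (0, 0, 1, 0) := by rw [hT]; unfold tv om Cls; decide
  obtain ⟨z, hz⟩ : ∃ z : F, ((G ^ 10 : GL ι F) : Matrix ι ι F) = z • 1 := by
    refine hF.setting.scalar_of_central fun x hx => ?_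
    have hfix : cls A B J K (G ^ 5 * x * (G ^ 5)⁻¹) = cls A B J K x := by rw [← hiter 5 x hx, h5]
    obtain ⟨c, hc⟩ := hF.eq_smul_of_cls (conj_mem (pow_mem hGN 5) hx) hx hfix
    have hx5 : ((G ^ 5 : GL ι F) : Matrix ι ι F) * x = c • ((x : Matrix ι ι F) * (G ^ 5 : GL ι F)) := by
      rw [← Units.val_mul, show G ^ 5 * x = G ^ 5 * x * (G ^ 5)⁻¹ * G ^ 5 by group, Units.val_mul, hc, smul_mul_assoc]
    have hc2 : c * c = 1 := by
      obtain ⟨s, hs⟩ : ∃ s : F, (x : Matrix ι ι F) * x = s • 1 := by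
        rcases hF.setting.square hx with h' | h'
        exacts [⟨1, by rw [h', one_smul]⟩, ⟨-1, by rw [h', neg_one_smul]⟩]
      have hsq : ((G ^ 5 * x * (G ^ 5)⁻¹ : GL ι F) : Matrix ι ι F) * (G ^ 5 * x * (G ^ 5)⁻¹ : GL ι F) =
          (x : Matrix ι ι F) * x := by
        rw [← Units.val_mul, show G ^ 5 * x * (G ^ 5)⁻¹ * (G ^ 5 * x * (G ^ 5)⁻¹) = G ^ 5 * (x * x) * (G ^ 5)⁻¹ by group,
          Units.val_mul, Units.val_mul, Units.val_mul, hs, mul_smul_comm, mul_one, smul_mul_assoc, ← Units.val_mul,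
          mul_inv_cancel, Units.val_one]
      rw [hc, smul_mul_assoc, mul_smul_comm, smul_smul] at hsq
      have h' : (c * c - 1) • ((x * x : GL ι F) : Matrix ι ι F) = 0 := by
        rw [sub_smul, one_smul, Units.val_mul, hsq, sub_self]
      exact sub_eq_zero.1 ((smul_eq_zero.1 h').resolve_right (x * x).ne_zero)
    refine Units.ext ?_
    rw [Units.val_mul, Units.val_mul, show G ^ 10 = G ^ 5 * G ^ 5 by group, Units.val_mul, mul_assoc, hx5, mul_smul_comm,
      ← mul_assoc, hx5, smul_mul_assoc, smul_smul, hc2, one_smul, mul_assoc]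
  have hdG2 : ((G ^ 2 : GL ι F) : Matrix ι ι F).det = 1 := by
    rw [Units.val_pow_eq_pow_val, Matrix.det_pow, hG, Units.val_mul, Matrix.det_mul, hq, Matrix.det_smul, Matrix.det_one,
      hF.card, Units.val_mul, Units.val_mul, Units.val_mul, Matrix.det_mul, Matrix.det_mul, Matrix.det_mul]
    have h4 : (4 : F) ≠ 0 := by rw [show (4 : F) = 2 * 2 by norm_num]; exact mul_ne_zero h2 h2
    calc _ = ((4 : F)⁻¹ ^ 4) ^ 2 * (((g1 : Matrix ι ι F).det * (g1 : Matrix ι ι F).det) *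
          ((g2 : Matrix ι ι F).det * (g2 : Matrix ι ι F).det) * ((g3 : Matrix ι ι F).det * (g3 : Matrix ι ι F).det) *
          ((g4 : Matrix ι ι F).det * (g4 : Matrix ι ι F).det)) := by ring
      _ = 1 := by rw [d1, d2, d3, d4]; field_simp; norm_num
  have hz4 : z ^ 4 = 1 := by
    have e := congrArg Matrix.det hz
    rw [Matrix.det_smul, Matrix.det_one, mul_one, hF.card, show G ^ 10 = (G ^ 2) ^ 5 by group, Units.val_pow_eq_pow_val,
      Matrix.det_pow, hdG2, one_pow] at e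
    exact e.symm
  refine ⟨G ^ 32, pow_mem hGN _, ?_, ?_, ?_, fun τ ad ha => ?_⟩
  · rw [show G ^ 32 = (G ^ 2) ^ 16 by group, Units.val_pow_eq_pow_val, Matrix.det_pow, hdG2, one_pow]
  · refine Units.ext ?_
    rw [show (G ^ 32) ^ 5 = (G ^ 10) ^ 16 by group, Units.val_pow_eq_pow_val, hz, smul_pow, one_pow,
      show 16 = 4 * 4 from rfl, pow_mul, hz4, one_pow, one_smul, Units.val_one]
  · intro h32
    refine hmove ?_
    rw [← cJ, hiter 2 J hF.hJ]
    have e2 : ((G ^ 2 : GL ι F) : Matrix ι ι F) * J = J * (G ^ 2 : GL ι F) := by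
      have h30 : ((G ^ 30 : GL ι F) : Matrix ι ι F) = z ^ 3 • 1 := by
        rw [show G ^ 30 = (G ^ 10) ^ 3 by group, Units.val_pow_eq_pow_val, hz, smul_pow, one_pow]
      have e : ((G ^ 32 : GL ι F) : Matrix ι ι F) = z ^ 3 • ((G ^ 2 : GL ι F) : Matrix ι ι F) := by
        rw [show G ^ 32 = G ^ 30 * G ^ 2 by group, Units.val_mul, h30, smul_mul_assoc, one_mul]
      rw [h32, Units.val_one] at e
      have hz0 : z ^ 3 ≠ 0 := pow_ne_zero _ (fun h0 => by rw [h0] at hz4; simp at hz4)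
      have e3 : ((G ^ 2 : GL ι F) : Matrix ι ι F) = (z ^ 3)⁻¹ • 1 := by
        rw [e, smul_smul, inv_mul_cancel₀ hz0, one_smul]
      rw [e3]; simp
    congr 1
    rw [mul_inv_eq_iff_eq_mul]
    exact Units.ext e2
  · have hq' : ad (q : Matrix ι ι F) * q = (16 : F)⁻¹ • 1 := by
      rw [hq, ha.smul, ha.one, smul_mul_assoc, one_mul, smul_smul, map_inv₀, map_ofNat, ← mul_inv]
      norm_num
    have hadG : ad (G : Matrix ι ι F) * G = 1 := by
      have hh : ∀ (s : F) (X Y : Matrix ι ι F), ad X * X = s • 1 → ad Y * Y = (2 : F) • 1 →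
          ad (X * Y) * (X * Y) = (2 * s) • 1 := fun s X Y hX hY => by
        rw [ha.mul, mul_assoc, ← mul_assoc (ad X), hX, smul_mul_assoc, one_mul, mul_smul_comm, hY, smul_smul, mul_comm s]
      have e := hh _ _ _ (hh _ _ _ (hh _ _ _ (a1 τ ad ha) (a2 τ ad ha)) (a3 τ ad ha)) (a4 τ ad ha)
      rw [hG, Units.val_mul, ha.mul, mul_assoc, ← mul_assoc (ad (q : Matrix ι ι F)), hq', smul_mul_assoc, one_mul,
        mul_smul_comm, Units.val_mul, Units.val_mul, Units.val_mul, e, smul_smul]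
      have h16 : (16 : F) ≠ 0 := by rw [show (16 : F) = 2 ^ 4 by norm_num]; exact pow_ne_zero _ h2
      rw [show (16 : F)⁻¹ * (2 * (2 * (2 * 2))) = 1 by field_simp; norm_num, one_smul]
    have : ∀ n : ℕ, ad ((G ^ n : GL ι F) : Matrix ι ι F) * (G ^ n : GL ι F) = 1 := fun n => by
      induction n with
      | zero => simp [ha.one]
      | succ n ih =>
        rw [pow_succ, Units.val_mul, ha.mul, mul_assoc, ← mul_assoc (ad ((G ^ n : GL ι F) : Matrix ι ι F)), ih,
          one_mul, hadG]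
    exact this 32

/-- an element of order three from an anticommuting pair of square roots of minus one -/
theorem Frame.exists_three (hF : Frame R A B J K) {P Q : GL ι F} (hP : P ∈ R) (hQ : Q ∈ R)
    (hPP : (P : Matrix ι ι F) * P = -1) (hQQ : (Q : Matrix ι ι F) * Q = -1)
    (hPQ : (P : Matrix ι ι F) * Q = -((Q : Matrix ι ι F) * P)) :
    ∃ k : GL ι F, k ∈ Cfsg.Geo.subgroupNormalizer R ∧ (k : Matrix ι ι F).det = 1 ∧
      (k : Matrix ι ι F) * k + k + 1 = 0 ∧ k ^ 3 = 1 ∧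
      (k : Matrix ι ι F) = (-(2 : F)⁻¹) • (1 + (P : Matrix ι ι F) + Q + (P : Matrix ι ι F) * Q) ∧
      ∀ (τ : F →+* F) (ad : Matrix ι ι F → Matrix ι ι F), AdPair R τ ad → ad (k : Matrix ι ι F) * k = 1 := by
  haveI := hF.nonempty
  have h2 := hF.setting.two
  obtain ⟨g1, e1, n1, d1, f1, a1⟩ := hF.exists_transvection hP hPP (not_scalar_of_anticomm h2 hPQ)
  obtain ⟨g2, e2, n2, d2, f2, a2⟩ := hF.exists_transvection hQ hQQ
    (not_scalar_of_anticomm h2 (y := P) (by rw [hPQ, neg_neg]))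
  obtain ⟨s, hs⟩ : ∃ s : GL ι F, (s : Matrix ι ι F) = (-(2 : F)⁻¹) • 1 := by
    refine ⟨Matrix.GeneralLinearGroup.mkOfDetNeZero ((-(2 : F)⁻¹) • 1) ?_, rfl⟩
    rw [Matrix.det_smul, Matrix.det_one, mul_one]
    exact pow_ne_zero _ (neg_ne_zero.2 (inv_ne_zero h2))
  obtain ⟨k, hk⟩ : ∃ k : GL ι F, k = s * (g1 * g2) := ⟨_, rfl⟩
  obtain ⟨W, hW⟩ : ∃ W, W = (P : Matrix ι ι F) + Q + (P : Matrix ι ι F) * Q := ⟨_, rfl⟩
  have hkv : (k : Matrix ι ι F) = (-(2 : F)⁻¹) • (1 + W) := by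
    rw [hk, Units.val_mul, Units.val_mul, hs, e1, e2, smul_mul_assoc, one_mul, hW]
    congr 1
    rw [add_mul, mul_add, mul_add, one_mul, one_mul, mul_one]; abel
  have hQP : (Q : Matrix ι ι F) * P = -((P : Matrix ι ι F) * Q) := by rw [hPQ, neg_neg]
  have hQPx : ∀ X : Matrix ι ι F, (Q : Matrix ι ι F) * (P * X) = -((P : Matrix ι ι F) * (Q * X)) := fun X => by
    rw [← mul_assoc, hQP, neg_mul, mul_assoc]
  have hPPx : ∀ X : Matrix ι ι F, (P : Matrix ι ι F) * (P * X) = -X := fun X => by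
    rw [← mul_assoc, hPP, neg_one_mul]
  have hWW : W * W = (-3 : F) • 1 := by
    rw [hW]
    simp only [mul_add, add_mul, mul_assoc, hPP, hQQ, hQP, hQPx, hPPx, mul_neg, mul_one, neg_neg]
    module
  have hkk : (k : Matrix ι ι F) * k + k + 1 = 0 := by
    rw [hkv, smul_mul_assoc, mul_smul_comm, smul_smul]
    simp only [mul_add, add_mul, one_mul, mul_one, hWW]
    match_scalars <;> field_simp <;> ring
  have hk3 : k ^ 3 = 1 := Units.ext (by
    have e : (k : Matrix ι ι F) * ((k : Matrix ι ι F) * k + k + 1) - ((k : Matrix ι ι F) * k + k + 1) =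
        (k : Matrix ι ι F) ^ 3 - 1 := by noncomm_ring
    rw [hkk, mul_zero, sub_zero] at e
    rw [Units.val_pow_eq_pow_val, Units.val_one]
    exact sub_eq_zero.1 e.symm)
  have hdet : (k : Matrix ι ι F).det = 1 := by
    have hd3 := congrArg (fun g : GL ι F => (g : Matrix ι ι F).det) hk3
    simp only [Units.val_pow_eq_pow_val, Matrix.det_pow, Units.val_one, Matrix.det_one] at hd3
    have hd2 : (k : Matrix ι ι F).det * (k : Matrix ι ι F).det = 1 := by
      rw [hk, Units.val_mul, Units.val_mul, hs, Matrix.det_mul, Matrix.det_mul, Matrix.det_smul, Matrix.det_one, hF.card]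
      calc _ = (-(2 : F)⁻¹) ^ 8 * (((g1 : Matrix ι ι F).det * (g1 : Matrix ι ι F).det) *
            ((g2 : Matrix ι ι F).det * (g2 : Matrix ι ι F).det)) := by ring
        _ = 1 := by rw [d1, d2]; field_simp; norm_num
    linear_combination hd3 - (k : Matrix ι ι F).det * hd2
  refine ⟨k, hk ▸ mul_mem (scalar_mem_normalizer hs) (mul_mem n1 n2), hdet, hkk, hk3,
    by rw [hkv, hW]; congr 1; abel, fun τ ad ha => ?_⟩
  rw [hk, Units.val_mul, Units.val_mul, hs, ha.mul, ha.smul, ha.one, ha.mul, map_neg, map_inv₀, map_ofNat]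
  simp only [mul_smul_comm, smul_mul_assoc, one_mul, mul_one, smul_smul]
  rw [mul_assoc, ← mul_assoc (ad (g1 : Matrix ι ι F)), a1 τ ad ha, smul_mul_assoc, one_mul, mul_smul_comm,
    a2 τ ad ha, smul_smul, smul_smul]
  rw [show (-(2 : F)⁻¹) * (-(2 : F)⁻¹) * 2 * 2 = 1 by field_simp, one_smul]

/-- a second element of order three, with fixed points, when minus one is a square in the group -/
theorem Frame.exists_three_fixed (hF : Frame R A B J K) {si : GL ι F} {i : F} (hsi : si ∈ R)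
    (hi : (si : Matrix ι ι F) = i • 1) (hii : i * i = -1) (h3c : (3 : F) ≠ 0) :
    ∃ k : GL ι F, k ∈ Cfsg.Geo.subgroupNormalizer R ∧ (k : Matrix ι ι F).det = 1 ∧ k ^ 3 = 1 ∧ k ≠ 1 ∧
      (k : Matrix ι ι F) * k + k + 1 ≠ 0 ∧
      ∀ (τ : F →+* F) (ad : Matrix ι ι F → Matrix ι ι F), AdPair R τ ad → ad (k : Matrix ι ι F) * k = 1 := by
  haveI := hF.nonempty
  have h2 := hF.setting.two
  have h := hF.rels
  obtain ⟨k1, n1, d1, q1, t1, v1, a1⟩ := hF.exists_three hF.hJ hF.hK h.JJ h.KK (by rw [h.KJ, neg_neg])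
  have hsA : ((si * A : GL ι F) : Matrix ι ι F) = i • (A : Matrix ι ι F) := by rw [Units.val_mul, hi, smul_mul_assoc, one_mul]
  have hsB : ((si * B : GL ι F) : Matrix ι ι F) = i • (B : Matrix ι ι F) := by rw [Units.val_mul, hi, smul_mul_assoc, one_mul]
  obtain ⟨k2, n2, d2, q2, t2, v2, a2⟩ := hF.exists_three (P := si * A) (Q := si * B) (mul_mem hsi hF.hA) (mul_mem hsi hF.hB)
    (by rw [hsA, smul_mul_assoc, mul_smul_comm, smul_smul, hii, h.AA, neg_one_smul])
    (by rw [hsB, smul_mul_assoc, mul_smul_comm, smul_smul, hii, h.BB, neg_one_smul])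
    (by simp only [hsA, hsB, smul_mul_assoc, mul_smul_comm, smul_smul, h.BA, smul_neg, neg_neg])
  rw [hsA, hsB, smul_mul_assoc, mul_smul_comm, smul_smul, hii] at v2
  have hcomm : k1 * k2 = k2 * k1 := Units.ext (by
    simp only [Units.val_mul, v1, v2, smul_mul_assoc, mul_smul_comm, mul_add, add_mul, one_mul, mul_one,
      mul_assoc, h.JA, h.JA', h.JB, h.JB', h.KA, h.KA', h.KB, h.KB', smul_add, smul_smul]
    module)
  have hAk1 : (A : Matrix ι ι F) * k1 = (k1 : Matrix ι ι F) * A := by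
    simp only [v1, smul_mul_assoc, mul_smul_comm, mul_add, add_mul, one_mul, mul_one, mul_assoc, h.JA, h.JA', h.KA, h.KA']
  have hAk2 : (A : Matrix ι ι F) * k2 ≠ (k2 : Matrix ι ι F) * A := by
    intro he
    simp only [v2, smul_mul_assoc, mul_smul_comm, mul_add, add_mul, one_mul, mul_one, mul_assoc, h.BA, h.BA', h.AA,
      h.AA', mul_neg, smul_neg] at he
    have hli := h.indep h2
    have hc2 : (2 : F)⁻¹ ≠ 0 := inv_ne_zero h2
    have e1 : (2 * i) • ((A : Matrix ι ι F) * B) + (-2 : F) • (B : Matrix ι ι F) = 0 := by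
      refine (smul_eq_zero.1 (show (-(2 : F)⁻¹) • ((2 * i) • ((A : Matrix ι ι F) * B) + (-2 : F) • (B : Matrix ι ι F)) = 0 by
        linear_combination (norm := module) he)).resolve_left (neg_ne_zero.2 hc2)
    have hp : LinearIndependent F ![(A : Matrix ι ι F) * B, (B : Matrix ι ι F)] := by
      have h' := hli.comp ![((1, 1, 0, 0) : Cls), (0, 1, 0, 0)] (by decide)
      convert h' using 1
      funext x; fin_cases x <;> simp [Rels.word]
    have e2 := LinearIndependent.pair_iff.1 hp _ _ e1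
    exact h2 (by linear_combination -e2.2)
  refine ⟨k1 * k2, mul_mem n1 n2, by rw [Units.val_mul, Matrix.det_mul, d1, d2, one_mul],
    by rw [(show Commute k1 k2 from hcomm).mul_pow, t1, t2, one_mul], fun he => hAk2 ?_, fun he => hAk2 ?_,
    fun τ ad ha => ?_⟩
  · have e : k2 = k1⁻¹ := eq_inv_of_mul_eq_one_right he
    have hc : A * k1⁻¹ = k1⁻¹ * A := ((show Commute A k1 from Units.ext hAk1).inv_right).eq
    rw [← e] at hc
    simpa using congrArg (fun g : GL ι F => (g : Matrix ι ι F)) hc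
  · -- forces `k1 = k2`
    suffices (k1 : Matrix ι ι F) = k2 by rw [← this]; exact hAk1
    obtain ⟨a, ha'⟩ : ∃ a, a = (k1 : Matrix ι ι F) := ⟨_, rfl⟩
    obtain ⟨b, hb'⟩ : ∃ b, b = (k2 : Matrix ι ι F) := ⟨_, rfl⟩
    have hab : a * b = b * a := by
      rw [ha', hb']; simpa using congrArg (fun g : GL ι F => (g : Matrix ι ι F)) hcomm
    rw [Units.val_mul, ← ha', ← hb'] at he
    rw [← ha', ← hb']
    have e1 : a * a = -a - 1 := by rw [ha']; linear_combination (norm := module) q1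
    have e2 : b * b = -b - 1 := by rw [hb']; linear_combination (norm := module) q2
    have e3 : a * (1 + (2 : F) • b) = -((2 : F) • 1 + b) := by
      have e : a * b * (a * b) = (a * a) * (b * b) := by
        rw [mul_assoc, ← mul_assoc b, ← hab]; simp only [mul_assoc]
      rw [e, e1, e2] at he
      simp only [sub_mul, neg_mul, mul_sub, mul_neg, one_mul, mul_one] at he
      simp only [mul_add, mul_one, mul_smul_comm]
      linear_combination (norm := module) he
    have e4 : (1 + (2 : F) • b) * (1 + (2 : F) • b) = (-3 : F) • 1 := by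
      simp only [mul_add, add_mul, one_mul, mul_one, smul_mul_assoc, mul_smul_comm, e2, smul_sub, smul_neg]
      module
    have e5 := congrArg (· * (1 + (2 : F) • b)) e3
    simp only [mul_assoc, e4, mul_smul_comm, mul_one] at e5
    simp only [neg_mul, mul_add, add_mul, one_mul, mul_one, smul_mul_assoc, mul_smul_comm, e2, smul_sub, smul_neg] at e5
    have h3 : (3 : F) • (a - b) = 0 := by linear_combination (norm := module) -e5
    exact sub_eq_zero.1 ((smul_eq_zero.1 h3).resolve_left h3c)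
  · rw [Units.val_mul, ha.mul, mul_assoc, ← mul_assoc (ad (k1 : Matrix ι ι F)), a1 τ ad ha, one_mul, a2 τ ad ha]

/-- an involution of trace two -/
theorem Frame.exists_reflection (hF : Frame R A B J K) {si : GL ι F} {i : F} (hsi : si ∈ R)
    (hi : (si : Matrix ι ι F) = i • 1) (hii : i * i = -1) :
    ∃ g : GL ι F, g ∈ Cfsg.Geo.subgroupNormalizer R ∧ (g : Matrix ι ι F) * g = 1 ∧ (g : Matrix ι ι F).trace = 2 ∧
      (∀ c : F, (g : Matrix ι ι F) ≠ c • 1) ∧
      ∀ (τ : F →+* F) (ad : Matrix ι ι F → Matrix ι ι F), AdPair R τ ad → ad (g : Matrix ι ι F) * g = 1 := by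
  haveI := hF.nonempty
  have h2 := hF.setting.two
  have h := hF.rels
  obtain ⟨y, hy, hyR⟩ : ∃ y : GL ι F, y = si * J ∧ y ∈ R := ⟨_, rfl, mul_mem hsi hF.hJ⟩
  obtain ⟨Y, hY⟩ : ∃ Y : Matrix ι ι F, Y = (y : Matrix ι ι F) := ⟨_, rfl⟩
  have hYv : Y = i • (J : Matrix ι ι F) := by rw [hY, hy, Units.val_mul, hi, smul_mul_assoc, one_mul]
  have hYY : Y * Y = 1 := by rw [hYv, smul_mul_assoc, mul_smul_comm, smul_smul, hii, h.JJ, neg_one_smul, neg_neg]
  have hYA : Y * A = A * Y := by rw [hYv, smul_mul_assoc, mul_smul_comm, h.JA]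
  have hYB : Y * B = B * Y := by rw [hYv, smul_mul_assoc, mul_smul_comm, h.JB]
  have hYJ : Y * J = J * Y := by rw [hYv, smul_mul_assoc, mul_smul_comm]
  have hYK : Y * K = -((K : Matrix ι ι F) * Y) := by
    rw [hYv, smul_mul_assoc, mul_smul_comm, show (J : Matrix ι ι F) * K = -((K : Matrix ι ι F) * J) by rw [h.KJ, neg_neg],
      smul_neg]
  have hYA' : ∀ X : Matrix ι ι F, Y * (A * X) = A * (Y * X) := fun X => by rw [← mul_assoc, hYA, mul_assoc]
  have hYB' : ∀ X : Matrix ι ι F, Y * (B * X) = B * (Y * X) := fun X => by rw [← mul_assoc, hYB, mul_assoc]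
  have hYJ' : ∀ X : Matrix ι ι F, Y * (J * X) = J * (Y * X) := fun X => by rw [← mul_assoc, hYJ, mul_assoc]
  have hYY' : ∀ X : Matrix ι ι F, Y * (Y * X) = X := fun X => by rw [← mul_assoc, hYY, one_mul]
  have hYK' : ∀ X : Matrix ι ι F, Y * (K * X) = -((K : Matrix ι ι F) * (Y * X)) := fun X => by
    rw [← mul_assoc, hYK, neg_mul, mul_assoc]
  obtain ⟨U, hU⟩ : ∃ U : Matrix ι ι F, U = (2 : F)⁻¹ • (1 + (A : Matrix ι ι F) + Y - (A : Matrix ι ι F) * Y) := ⟨_, rfl⟩
  have hUU : U * U = 1 := by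
    rw [hU, smul_mul_assoc, mul_smul_comm, smul_smul]
    simp only [mul_add, add_mul, mul_sub, sub_mul, one_mul, mul_one, mul_assoc, h.AA, h.AA', hYY, hYA, hYA']
    match_scalars <;> field_simp <;> ring
  obtain ⟨g, hg⟩ : ∃ g : GL ι F, (g : Matrix ι ι F) = U := ⟨⟨U, U, hUU, hUU⟩, rfl⟩
  have hcm : ∀ (Q P : GL ι F), P ∈ R → U * (Q : Matrix ι ι F) = (P : Matrix ι ι F) * U → g * Q * g⁻¹ ∈ R := by
    intro Q P hP e
    have : g * Q = P * g := Units.ext (by rw [Units.val_mul, Units.val_mul, hg]; exact e)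
    rw [this, mul_inv_cancel_right]; exact hP
  refine ⟨g, hF.mem_normalizer (hcm A A hF.hA ?_) (hcm B (B * y) (mul_mem hF.hB hyR) ?_) (hcm J J hF.hJ ?_)
    (hcm K (K * A) (mul_mem hF.hK hF.hA) ?_), by rw [hg, hUU], ?_, fun c hc => ?_, fun τ ad ha => ?_⟩
  · rw [hU, smul_mul_assoc, mul_smul_comm]
    simp only [mul_add, add_mul, mul_sub, sub_mul, one_mul, mul_one, mul_assoc, h.AA, h.AA', hYA, hYA']
  · rw [Units.val_mul, ← hY, hU, smul_mul_assoc, mul_smul_comm]
    simp only [mul_add, add_mul, mul_sub, sub_mul, one_mul, mul_one, mul_assoc, hYA, hYA', hYB, hYB', hYY, hYY',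
      h.BA, h.BA', neg_mul, mul_neg]
    congr 1; abel
  · rw [hU, smul_mul_assoc, mul_smul_comm]
    simp only [mul_add, add_mul, mul_sub, sub_mul, one_mul, mul_one, mul_assoc, h.JA, h.JA', hYJ, hYJ']
  · rw [Units.val_mul, hU, smul_mul_assoc, mul_smul_comm]
    simp only [mul_add, add_mul, mul_sub, sub_mul, one_mul, mul_one, mul_assoc, h.KA, h.KA', h.AA, h.AA', hYK, hYK',
      hYA, hYA', neg_mul, mul_neg]
    congr 1; abel
  · have hA0 : (A : Matrix ι ι F).trace = 0 := hF.trace_eq_zero hF.hA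
      (not_scalar_of_anticomm h2 (y := B) (by rw [h.BA, neg_neg]))
    have hY0 : Y.trace = 0 := hY ▸ hF.trace_eq_zero hyR
      (not_scalar_of_anticomm h2 (y := K) (by rw [← hY]; exact hYK))
    have hAY : ((A : Matrix ι ι F) * Y).trace = 0 := by
      rw [hY, ← Units.val_mul]
      exact hF.trace_eq_zero (mul_mem hF.hA hyR) (not_scalar_of_anticomm h2 (y := K) (by
        rw [Units.val_mul, ← hY]; simp [mul_assoc, hYK, h.KA']))
    rw [hg, hU, Matrix.trace_smul, Matrix.trace_sub, Matrix.trace_add, Matrix.trace_add, Matrix.trace_one, hA0, hY0,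
      hAY, hF.card, smul_eq_mul]
    push_cast
    field_simp
    ring
  · rw [hg] at hc
    have hUB : U * (B : Matrix ι ι F) = (B : Matrix ι ι F) * Y * U := by
      rw [hU, smul_mul_assoc, mul_smul_comm]
      simp only [mul_add, add_mul, mul_sub, sub_mul, one_mul, mul_one, mul_assoc, hYA, hYA', hYB, hYB', hYY, hYY',
        h.BA, h.BA', neg_mul, mul_neg]
      congr 1; abel
    rw [hc, smul_mul_assoc, one_mul, mul_smul_comm, mul_one] at hUB
    have hc0 : c ≠ 0 := fun h0 => by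
      rw [hc, h0, zero_smul, mul_zero] at hUU
      exact zero_ne_one hUU
    have hYB1 : (B : Matrix ι ι F) * Y = B * 1 := by rw [mul_one]; exact (smul_right_injective _ hc0 hUB).symm
    have hY1 : Y = 1 := B.isUnit.mul_left_cancel hYB1
    exact not_scalar_of_anticomm h2 (y := K) (x := y) (by rw [← hY]; exact hYK) 1 (by rw [← hY, hY1, one_smul])
  · have adA : ad (A : Matrix ι ι F) = A := ha.ad_invol hF.hA h.AA
    have adY : ad Y = Y := hY ▸ ha.ad_invol hyR (by rw [← hY]; exact hYY)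
    have hneg : ad (-((A : Matrix ι ι F) * Y)) = -((A : Matrix ι ι F) * Y) := by
      rw [← neg_one_smul F, ha.smul, ha.mul, adA, adY, hYA, map_neg, map_one]
    have : ad U = U := by
      rw [hU, ha.smul, sub_eq_add_neg, ha.add, ha.add, ha.add, ha.one, adA, adY, hneg, map_inv₀, map_ofNat]
    rw [hg, this, hUU]

end CfsgLib.Perm.Elusive.STFour
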