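import Mathlib
import Cfsg.Agent.Lib.Perm.Elusive.STFour.Charpoly

/-!
# Characteristic polynomials of square roots of scalars in dimension four
-/

set_option autoImplicit false
set_option linter.all false

namespace CfsgLib.Perm.Elusive.STFour

open Polynomial

variable {ι : Type} [Fintype ι] [DecidableEq ι] {F : Type*} [Field F]

theorem spec_sq (hι : Fintype.card ι = 4) {A : Matrix ι ι F} {c : F} (hA : A * A = c • 1)
    {e : AlgebraicClosure F} (he : e * e = algebraMap F (AlgebraicClosure F) c) (hne : e ≠ -e) :
    ∃ a b : ℕ, a + b = 4 ∧ spec A = Multiset.replicate a e + Multiset.replicate b (-e) := by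
  classical
  have hroot : ∀ t ∈ spec A, t = e ∨ t = -e := fun t ht => by
    have h := mem_spec_root (g := X * X - C c) (by simp [hA, Algebra.algebraMap_eq_smul_one]) ht
    simp [← he] at h
    exact mul_self_eq_mul_self_iff.1 (sub_eq_zero.1 h)
  have hrep : spec A = Multiset.replicate ((spec A).count e) e + Multiset.replicate ((spec A).count (-e)) (-e) := by
    refine Multiset.ext.2 fun t => ?_
    rw [Multiset.count_add, Multiset.count_replicate, Multiset.count_replicate]
    by_cases h : t ∈ spec A
    · rcases hroot t h with rfl | rfl <;> simp [hne, hne.symm]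
    · rw [Multiset.count_eq_zero.2 h]
      split_ifs <;> subst_vars <;> simp_all
  refine ⟨_, _, ?_, hrep⟩
  have h := card_spec A
  rw [hι] at h
  conv_rhs => rw [← h, hrep]
  simp

/-- trace zero square roots of one scalar have one characteristic polynomial -/
theorem charpoly_sq (hι : Fintype.card ι = 4) (h2 : (2 : F) ≠ 0) {A B : Matrix ι ι F} {c : F} (hc : c ≠ 0)
    (hA : A * A = c • 1) (hB : B * B = c • 1) (tA : A.trace = 0) (tB : B.trace = 0) : A.charpoly = B.charpoly := by
  have h2' : (2 : AlgebraicClosure F) ≠ 0 := fun h => h2 ((algebraMap F (AlgebraicClosure F)).injective (by rw [map_ofNat, map_zero, h]))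
  obtain ⟨e, he⟩ := IsAlgClosed.exists_pow_nat_eq (algebraMap F (AlgebraicClosure F) c) (n := 2) (by norm_num)
  rw [sq] at he
  have he0 : e ≠ 0 := fun h => by
    rw [h, mul_zero] at he
    exact hc ((map_eq_zero _).1 he.symm)
  have hne : e ≠ -e := fun h => mul_ne_zero h2' he0 (by linear_combination h)
  have key : ∀ M : Matrix ι ι F, M * M = c • 1 → M.trace = 0 →
      spec M = Multiset.replicate 2 e + Multiset.replicate 2 (-e) := by
    intro M hM tM
    obtain ⟨a, b, hab, hs⟩ := spec_sq hι hM he hne
    have ht := trace_spec M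
    rw [tM, map_zero, hs] at ht
    simp only [Multiset.sum_add, Multiset.sum_replicate, nsmul_eq_mul] at ht
    have h4 : (4 : AlgebraicClosure F) * e ≠ 0 := by
      rw [show (4 : AlgebraicClosure F) = 2 * 2 by norm_num]; exact mul_ne_zero (mul_ne_zero h2' h2') he0
    have h2e : (2 : AlgebraicClosure F) * e ≠ 0 := mul_ne_zero h2' he0
    obtain rfl : b = 4 - a := by omega
    obtain rfl : a = 2 := by
      by_contra hne2
      rcases (show a = 0 ∨ a = 1 ∨ a = 3 ∨ a = 4 by omega) with rfl | rfl | rfl | rfl <;> norm_num at ht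
      · exact h4 (mul_eq_zero.2 ht)
      · exact h2e (by linear_combination ht)
      · exact h2e (by linear_combination -ht)
      · exact h4 (mul_eq_zero.2 ht)
    exact hs
  exact charpoly_eq_of_spec (by rw [key A hA tA, key B hB tB])

/-- non-scalar involutions of determinant one have trace zero -/
theorem invol_trace_zero (hι : Fintype.card ι = 4) (h2 : (2 : F) ≠ 0) {A : Matrix ι ι F} (hA : A * A = 1)
    (hA1 : A ≠ 1) (hA2 : A ≠ -1) (hd : A.det = 1) : A.trace = 0 := by
  have h2' : (2 : AlgebraicClosure F) ≠ 0 := fun h => h2 ((algebraMap F (AlgebraicClosure F)).injective (by rw [map_ofNat, map_zero, h]))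
  have hne : (1 : AlgebraicClosure F) ≠ -1 := fun h => h2' (by linear_combination h)
  obtain ⟨a, b, hab, hs⟩ := spec_sq hι (c := 1) (by rw [hA, one_smul]) (e := 1) (by rw [one_mul, map_one]) hne
  have hda := det_spec A
  rw [hd, map_one, hs] at hda
  simp only [Multiset.prod_add, Multiset.prod_replicate, one_pow, one_mul] at hda
  have ht := trace_spec A
  rw [hs] at ht
  simp only [Multiset.sum_add, Multiset.sum_replicate, nsmul_eq_mul, mul_one, mul_neg] at ht
  have hinj := (algebraMap F (AlgebraicClosure F)).injective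
  obtain rfl : b = 4 - a := by omega
  have hmem : ∀ t : F, algebraMap F (AlgebraicClosure F) t ∉ spec A → IsUnit (Matrix.scalar ι t - A) := fun t h => by
    rw [Matrix.isUnit_iff_isUnit_det, isUnit_iff_ne_zero]
    exact fun hz => h (det_scalar_sub_eq_zero.1 hz)
  rcases (show a = 0 ∨ a = 1 ∨ a = 2 ∨ a = 3 ∨ a = 4 by omega) with rfl | rfl | rfl | rfl | rfl
  · exfalso
    have hu := hmem 1 (by rw [map_one, hs]; simp [Multiset.mem_replicate, hne])
    have : (Matrix.scalar ι (1 : F) - A) * (A + 1) = 0 := by rw [map_one, sub_mul, one_mul, mul_add, hA, mul_one]; abel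
    exact hA2 (eq_neg_of_add_eq_zero_left (hu.mul_right_eq_zero.1 this))
  · exact absurd (show (1 : AlgebraicClosure F) = -1 by linear_combination hda) hne
  · exact hinj (by rw [ht, map_zero]; norm_num)
  · exact absurd (show (1 : AlgebraicClosure F) = -1 by linear_combination hda) hne
  · exfalso
    have hu := hmem (-1) (by rw [map_neg, map_one, hs]; simp [Multiset.mem_replicate, hne.symm])
    have : (Matrix.scalar ι (-1 : F) - A) * (A - 1) = 0 := by
      rw [map_neg, map_one, sub_mul, neg_mul, one_mul, mul_sub, hA, mul_one]; abel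
    exact hA1 (sub_eq_zero.1 (hu.mul_right_eq_zero.1 this))

end CfsgLib.Perm.Elusive.STFour
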