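import Mathlib
import Cfsg.Prelude.Def_GeometricClasses
import Cfsg.Agent.Lib.Perm.Elusive.STFour.Orbits
import Cfsg.Agent.Lib.Perm.Elusive.STFour.RankOne
import Cfsg.Agent.Lib.Perm.Elusive.STFour.Charpoly

/-!
# Elements without a conjugate in the normaliser
-/

set_option autoImplicit false
set_option linter.all false

namespace CfsgLib.Perm.Elusive.STFour

open scoped Matrix
open Matrix

variable {ι : Type} [Fintype ι] [DecidableEq ι] {F : Type*} [Field F]
variable {R : Subgroup (GL ι F)} {A B J K : GL ι F}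

theorem coe_conj_eq (h x : GL ι F) :
    ((h⁻¹ * x * h : GL ι F) : Matrix ι ι F) = ((h⁻¹ : GL ι F) : Matrix ι ι F) * x * (h : Matrix ι ι F) := by
  rw [Units.val_mul, Units.val_mul]

theorem conj_scalar {h x : GL ι F} {c : F} (hx : ((h⁻¹ * x * h : GL ι F) : Matrix ι ι F) = c • 1) :
    (x : Matrix ι ι F) = c • 1 := by
  rw [show x = h * (h⁻¹ * x * h) * h⁻¹ by group, Units.val_mul, Units.val_mul, hx, mul_smul_comm, mul_one,
    smul_mul_assoc, ← Units.val_mul, mul_inv_cancel, Units.val_one]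

theorem conj_pow_scalar {h x : GL ι F} {r : ℕ} {z : F} (hx : ((x ^ r : GL ι F) : Matrix ι ι F) = z • 1) :
    (((h⁻¹ * x * h) ^ r : GL ι F) : Matrix ι ι F) = z • 1 := by
  have e : (h⁻¹ * x * h) ^ r = h⁻¹ * x ^ r * h := by
    have h' := conj_pow (a := h⁻¹) (b := x) (i := r)
    rwa [inv_inv] at h'
  rw [e, Units.val_mul, Units.val_mul, hx, mul_smul_comm, mul_one, smul_mul_assoc, ← Units.val_mul, inv_mul_cancel,
    Units.val_one]

/-- a scalar times `1 + u ⊗ φ` of odd order modulo scalars -/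
theorem Frame.no_conj_rankOne (hF : Frame R A B J K) {x : GL ι F} {c : F} {u φ : ι → F}
    (hx : (x : Matrix ι ι F) = c • (1 + vecMulVec u φ)) {r : ℕ} (hr : Odd r) {z : F}
    (hz : ((x ^ r : GL ι F) : Matrix ι ι F) = z • 1) (hns : ∀ t : F, (x : Matrix ι ι F) ≠ t • 1) (h : GL ι F) :
    h⁻¹ * x * h ∉ Cfsg.Geo.subgroupNormalizer R := by
  intro hN
  haveI := hF.nonempty
  have hc : c ≠ 0 := fun h0 => x.ne_zero (by rw [hx, h0, zero_smul])
  obtain ⟨s, hs⟩ : ∃ s : GL ι F, (s : Matrix ι ι F) = c⁻¹ • 1 :=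
    ⟨Matrix.GeneralLinearGroup.mkOfDetNeZero (c⁻¹ • 1) (by
      rw [det_smul, det_one, mul_one]; exact pow_ne_zero _ (inv_ne_zero hc)), rfl⟩
  have hsN : s * (h⁻¹ * x * h) ∈ Cfsg.Geo.subgroupNormalizer R := mul_mem (scalar_mem_normalizer hs) hN
  have hval : ((s * (h⁻¹ * x * h) : GL ι F) : Matrix ι ι F) =
      1 + vecMulVec (((h⁻¹ : GL ι F) : Matrix ι ι F) *ᵥ u) (φ ᵥ* (h : Matrix ι ι F)) := by
    rw [Units.val_mul, hs, smul_mul_assoc, one_mul, coe_conj_eq, hx, mul_smul_comm, smul_mul_assoc, smul_smul,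
      inv_mul_cancel₀ hc, one_smul, mul_add, mul_one, add_mul, ← Units.val_mul, inv_mul_cancel, Units.val_one,
      mul_vecMulVec, vecMulVec_mul]
  obtain ⟨t, ht⟩ := hF.scalar_of_rankOne hsN hval hr (z := (c⁻¹) ^ r * z) (by
    have hcs : Commute s (h⁻¹ * x * h) := Units.ext (by rw [Units.val_mul, Units.val_mul (h⁻¹ * x * h), hs]; simp)
    rw [hcs.mul_pow, Units.val_mul, conj_pow_scalar hz, Units.val_pow_eq_pow_val, hs, smul_pow, one_pow,
      smul_mul_assoc, one_mul, smul_smul])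
  rw [Units.val_mul, hs, smul_mul_assoc, one_mul] at ht
  refine hns (c * t) (conj_scalar (h := h) ?_)
  rw [← smul_smul, ← ht, smul_smul, mul_inv_cancel₀ hc, one_smul]

/-- an element of order five with a fixed plane and an invariant complement -/
theorem Frame.no_conj_five (hF : Frame R A B J K) {x : GL ι F} (e : ι ≃ Fin 2 ⊕ Fin 2)
    {S : Matrix (Fin 2) (Fin 2) F} (hx : (x : Matrix ι ι F) = reindex e.symm e.symm (fromBlocks 1 0 0 S)) {z : F}
    (hz : ((x ^ 5 : GL ι F) : Matrix ι ι F) = z • 1) (hns : ∀ t : F, (x : Matrix ι ι F) ≠ t • 1) (h : GL ι F) :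
    h⁻¹ * x * h ∉ Cfsg.Geo.subgroupNormalizer R := by
  intro hN
  let Y : Fin 5 → Matrix (Fin 2 ⊕ Fin 2) (Fin 2 ⊕ Fin 2) F :=
    ![fromBlocks !![1, 0; 0, 0] 0 0 0, fromBlocks !![0, 1; 0, 0] 0 0 0, fromBlocks !![0, 0; 1, 0] 0 0 0,
      fromBlocks !![0, 0; 0, 1] 0 0 0, fromBlocks 0 0 0 1]
  have hY : LinearIndependent F Y := by
    rw [Fintype.linearIndependent_iff]
    intro g hg i
    simp only [Y, Fin.sum_univ_five] at hg
    have e1 := congrFun (congrFun hg (Sum.inl 0)) (Sum.inl 0)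
    have e2 := congrFun (congrFun hg (Sum.inl 0)) (Sum.inl 1)
    have e3 := congrFun (congrFun hg (Sum.inl 1)) (Sum.inl 0)
    have e4 := congrFun (congrFun hg (Sum.inl 1)) (Sum.inl 1)
    have e5 := congrFun (congrFun hg (Sum.inr 0)) (Sum.inr 0)
    simp at e1 e2 e3 e4 e5
    fin_cases i <;> assumption
  have hcomm : ∀ i, fromBlocks 1 0 0 S * Y i = Y i * fromBlocks 1 0 0 S := fun i => by
    fin_cases i <;> simp [Y, fromBlocks_multiply]
  let L : Matrix (Fin 2 ⊕ Fin 2) (Fin 2 ⊕ Fin 2) F →ₗ[F] Matrix ι ι F :=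
    LinearMap.mulLeft F ((h⁻¹ : GL ι F) : Matrix ι ι F) ∘ₗ LinearMap.mulRight F (h : Matrix ι ι F) ∘ₗ
      (reindexLinearEquiv F F e.symm e.symm).toLinearMap
  have hLker : LinearMap.ker L = ⊥ := LinearMap.ker_eq_bot.2 fun M N hMN => by
    simp only [L, LinearMap.comp_apply, LinearMap.mulLeft_apply, LinearMap.mulRight_apply] at hMN
    exact (reindexLinearEquiv F F e.symm e.symm).injective (h.isUnit.mul_right_cancel
      ((h⁻¹).isUnit.mul_left_cancel hMN))
  refine hF.commutant_five hN (conj_pow_scalar hz) (fun t ht => hns t (conj_scalar ht)) (fun i => L (Y i))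
    (fun i => ?_) (hY.map' L hLker)
  simp only [L, LinearMap.comp_apply, LinearMap.mulLeft_apply, LinearMap.mulRight_apply, LinearEquiv.coe_coe,
    coe_conj_eq, reindexLinearEquiv_apply]
  have hh : (h : Matrix ι ι F) * ((h⁻¹ : GL ι F) : Matrix ι ι F) = 1 := by
    rw [← Units.val_mul, mul_inv_cancel, Units.val_one]
  have hc : (x : Matrix ι ι F) * reindex e.symm e.symm (Y i) = reindex e.symm e.symm (Y i) * x := by
    have e1 := congrArg (reindexLinearEquiv F F e.symm e.symm) (hcomm i)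
    rw [← reindexLinearEquiv_mul F F e.symm e.symm e.symm, ← reindexLinearEquiv_mul F F e.symm e.symm e.symm] at e1
    simpa [hx] using e1
  calc _ = ((h⁻¹ : GL ι F) : Matrix ι ι F) * ((x : Matrix ι ι F) * ((h : Matrix ι ι F) * ((h⁻¹ : GL ι F) : Matrix ι ι F)) *
        reindex e.symm e.symm (Y i)) * (h : Matrix ι ι F) := by simp only [mul_assoc]
    _ = ((h⁻¹ : GL ι F) : Matrix ι ι F) * (reindex e.symm e.symm (Y i) * ((h : Matrix ι ι F) * ((h⁻¹ : GL ι F) : Matrix ι ι F)) *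
        (x : Matrix ι ι F)) * (h : Matrix ι ι F) := by rw [hh, mul_one, mul_one, hc]
    _ = _ := by simp only [mul_assoc]

end CfsgLib.Perm.Elusive.STFour
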